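import Mathlib
import Cfsg.Agent.Tits.OppRes
import Cfsg.Agent.LieRecognition.CoxExcl

/-!
# The longest element of an irreducible finite Coxeter group (task AA-W0, helper234)

* `no_triangle`, `no_four_cycle`, `no_five_cycle` : the Coxeter graph has no short cycles;
* `dich` : the longest element is central, or it interchanges two commuting simple reflections, or the group is dihedral
  of order `2 m`, `m` odd.
-/

set_option autoImplicit false
set_option linter.unusedSectionVars false

namespace Cfsg.Agent.H234.AAW0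

open CoxeterSystem Cfsg.Agent.Tits.Core Cfsg.Agent.LieRecognition.CoxForm Cfsg.Agent.LieRecognition.CoxExcl

variable {I W : Type*} [Group W] {M : CoxeterMatrix I} (cs : CoxeterSystem M W)

section Cycles

variable [Finite I] [Finite W]
  (irr : ∀ J : Set I, J.Nonempty → J ≠ Set.univ → ∃ a ∈ J, ∃ b, b ∉ J ∧ M a b ≠ 2)

include cs in
theorem three_le {a b : I} (hab : a ≠ b) (h : M a b ≠ 2) : 3 ≤ M a b := by
  have := Fintype.ofFinite I
  classical
  have h1 := ne_zero_of_finite cs a b
  have h2 := M.off_diagonal a b hab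
  omega

include cs irr in
theorem conn (J : Set I) (h1 : J.Nonempty) (h2 : Jᶜ.Nonempty) : ∃ a ∈ J, ∃ b ∈ Jᶜ, M a b ≠ 2 := by
  obtain ⟨a, ha, b, hb, h⟩ := irr J h1 (by
    rintro rfl
    rw [Set.compl_univ] at h2
    exact Set.not_nonempty_empty h2)
  exact ⟨a, ha, b, hb, h⟩

include cs irr in
/-- There are no triangles. -/
theorem no_triangle {a b c : I} (hab : a ≠ b) (hac : a ≠ c) (hbc : b ≠ c)
    (h1 : M a b ≠ 2) (h2 : M a c ≠ 2) (h3 : M b c ≠ 2) : False := by
  classical
  have := Fintype.ofFinite I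
  have k1 := K_le_three M (three_le cs hab h1)
  have k2 := K_le_three M (three_le cs hac h2)
  have k3 := K_le_three M (three_le cs hbc h3)
  have hx : (bs a + bs b + bs c : I → ℝ) ≠ 0 := by
    intro h
    have h4 := congrFun h a
    simp [bs, hab, hac] at h4
  have h5 := q_pos cs (conn cs irr) _ hx
  rw [← bf_self] at h5
  simp only [bf_add_left, bf_add_right, bf_bs_bs, K_self] at h5
  rw [K_symm M b a, K_symm M c a, K_symm M c b] at h5
  linarith

include cs irr in
/-- There are no 4-cycles. -/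
theorem no_four_cycle {a b c d : I} (hab : a ≠ b) (hac : a ≠ c) (had : a ≠ d) (hbc : b ≠ c) (hbd : b ≠ d) (hcd : c ≠ d)
    (h1 : M a b ≠ 2) (h2 : M b c ≠ 2) (h3 : M c d ≠ 2) (h4 : M d a ≠ 2) : False := by
  classical
  have := Fintype.ofFinite I
  have k1 := K_le_three M (three_le cs hab h1)
  have k2 := K_le_three M (three_le cs hbc h2)
  have k3 := K_le_three M (three_le cs hcd h3)
  have k4 := K_le_three M (three_le cs had.symm h4)
  have knon : ∀ {x y : I}, x ≠ y → K M x y ≤ 0 := by
    intro x y hxy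
    by_cases h : M x y = 2
    · rw [K_two M h]
    · have := K_le_three M (three_le cs hxy h)
      linarith
  have k5 := knon hac
  have k6 := knon hbd
  have hx : (bs a + bs b + bs c + bs d : I → ℝ) ≠ 0 := by
    intro h
    have h4 := congrFun h a
    simp [bs, hab, hac, had] at h4
  have h5 := q_pos cs (conn cs irr) _ hx
  rw [← bf_self] at h5
  simp only [bf_add_left, bf_add_right, bf_bs_bs, K_self] at h5
  rw [K_symm M b a, K_symm M c a, K_symm M c b, K_symm M a d, K_symm M d b, K_symm M d c] at h5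
  linarith

include cs irr in
/-- There are no 5-cycles. -/
theorem no_five_cycle {a b c d e : I} (hab : a ≠ b) (hac : a ≠ c) (had : a ≠ d) (hae : a ≠ e) (hbc : b ≠ c)
    (hbd : b ≠ d) (hbe : b ≠ e) (hcd : c ≠ d) (hce : c ≠ e) (hde : d ≠ e)
    (h1 : M a b ≠ 2) (h2 : M b c ≠ 2) (h3 : M c d ≠ 2) (h4 : M d e ≠ 2) (h5 : M e a ≠ 2) : False := by
  classical
  have := Fintype.ofFinite I
  have k1 := K_le_three M (three_le cs hab h1)
  have k2 := K_le_three M (three_le cs hbc h2)
  have k3 := K_le_three M (three_le cs hcd h3)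
  have k4 := K_le_three M (three_le cs hde h4)
  have k5 := K_le_three M (three_le cs hae.symm h5)
  have knon : ∀ {x y : I}, x ≠ y → K M x y ≤ 0 := by
    intro x y hxy
    by_cases h : M x y = 2
    · rw [K_two M h]
    · have := K_le_three M (three_le cs hxy h)
      linarith
  have n1 := knon hac
  have n2 := knon had
  have n3 := knon hbd
  have n4 := knon hbe
  have n5 := knon hce
  have hx : (bs a + bs b + bs c + bs d + bs e : I → ℝ) ≠ 0 := by
    intro h
    have h4 := congrFun h a
    simp [bs, hab, hac, had, hae] at h4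
  have h6 := q_pos cs (conn cs irr) _ hx
  rw [← bf_self] at h6
  simp only [bf_add_left, bf_add_right, bf_bs_bs, K_self] at h6
  rw [K_symm M b a, K_symm M c a, K_symm M c b, K_symm M d a, K_symm M d b, K_symm M d c, K_symm M a e,
    K_symm M e b, K_symm M e c, K_symm M e d] at h6
  linarith

end Cycles

section W0

variable [Finite I] [Finite W]

/-- The opposition involution. -/
theorem simple_op (i : I) : cs.simple (op cs i) = w0 cs * cs.simple i * w0 cs :=
  (Cfsg.Agent.Tits.OppRes.instCox (cs := cs)).op i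

theorem w0_sq : w0 cs * w0 cs = 1 := (Cfsg.Agent.Tits.OppRes.instCox (cs := cs)).w0_mul_self

theorem w0_inv : (w0 cs)⁻¹ = w0 cs := (Cfsg.Agent.Tits.OppRes.instCox (cs := cs)).w0_inv

theorem simple_inj {a b : I} (h : cs.simple a = cs.simple b) : a = b := by
  classical
  have := Fintype.ofFinite I
  by_contra hab
  have h1 := orderOf_eq cs a b
  rw [h, cs.simple_mul_simple_self, orderOf_one] at h1
  exact M.off_diagonal a b hab h1.symm

theorem op_op (i : I) : op cs (op cs i) = i := by
  apply simple_inj cs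
  rw [simple_op, simple_op]
  have h := w0_sq cs
  calc w0 cs * (w0 cs * cs.simple i * w0 cs) * w0 cs = (w0 cs * w0 cs) * cs.simple i * (w0 cs * w0 cs) := by group
    _ = cs.simple i := by rw [h, one_mul, mul_one]

theorem M_op (i j : I) : M (op cs i) (op cs j) = M i j := by
  classical
  have := Fintype.ofFinite I
  rw [← orderOf_eq cs, ← orderOf_eq cs, simple_op, simple_op]
  have h := w0_sq cs
  have e : w0 cs * cs.simple i * w0 cs * (w0 cs * cs.simple j * w0 cs) =
      MulAut.conj (w0 cs) (cs.simple i * cs.simple j) := by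
    rw [MulAut.conj_apply, w0_inv]
    calc w0 cs * cs.simple i * w0 cs * (w0 cs * cs.simple j * w0 cs) =
        w0 cs * cs.simple i * (w0 cs * w0 cs) * cs.simple j * w0 cs := by group
      _ = _ := by rw [h]; group
  rw [e]
  exact orderOf_injective (MulAut.conj (w0 cs)).toMonoidHom (MulAut.conj (w0 cs)).injective _

theorem conj_eq (i : I) : w0 cs * cs.simple i * (w0 cs)⁻¹ = cs.simple (op cs i) := by
  rw [simple_op, w0_inv]

/-- If the two generators of a dihedral group are conjugate then the bond is odd. -/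
theorem odd_of_conj {i j : I} (hij : i ≠ j) (hI : ∀ k, k = i ∨ k = j) {w : W}
    (h : w * cs.simple i * w⁻¹ = cs.simple j) : Odd (M i j) := by
  classical
  by_contra ho
  rw [Nat.not_odd_iff_even] at ho
  let f : I → Multiplicative (ZMod 2) := fun k => if k = i then Multiplicative.ofAdd 1 else 1
  have hsq : ∀ x : Multiplicative (ZMod 2), x ^ 2 = 1 := by decide
  have hf : M.IsLiftable f := by
    intro a b
    rcases hI a with rfl | rfl <;> rcases hI b with rfl | rfl
    · rw [M.diagonal, pow_one, ← pow_two, hsq]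
    · obtain ⟨m, hm⟩ := ho
      rw [hm, ← two_mul, pow_mul, hsq, one_pow]
    · obtain ⟨m, hm⟩ := ho
      rw [M.symmetric] at hm
      rw [hm, ← two_mul, pow_mul, hsq, one_pow]
    · rw [M.diagonal, pow_one, ← pow_two, hsq]
  have h1 := congrArg (cs.lift ⟨f, hf⟩) h
  rw [map_mul, map_mul, map_inv, cs.lift_apply_simple hf, cs.lift_apply_simple hf] at h1
  have h2 : f i = Multiplicative.ofAdd 1 := if_pos rfl
  have h3 : f j = 1 := if_neg hij.symm
  rw [h2, h3, mul_comm, inv_mul_cancel_left] at h1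
  exact absurd h1 (by decide)

variable (irr : ∀ J : Set I, J.Nonempty → J ≠ Set.univ → ∃ a ∈ J, ∃ b, b ∉ J ∧ M a b ≠ 2)

include irr in
theorem dich_op : (∀ i, op cs i = i) ∨ (∃ i, op cs i ≠ i ∧ M i (op cs i) = 2) ∨
    (∃ i, op cs i ≠ i ∧ (∀ k, k = i ∨ k = op cs i) ∧ Odd (M i (op cs i))) := by
  by_cases hall : ∀ i, op cs i = i
  · exact Or.inl hall
  right
  push Not at hall
  obtain ⟨i, hi⟩ := hall
  by_cases h2 : M i (op cs i) = 2
  · exact Or.inl ⟨i, hi, h2⟩
  by_cases huniv : ∀ k, k = i ∨ k = op cs i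
  · right
    refine ⟨i, hi, huniv, odd_of_conj cs (w := w0 cs) (Ne.symm hi) huniv ?_⟩
    exact conj_eq cs i
  left
  push Not at huniv
  obtain ⟨k₀, hk₀, hk₀'⟩ := huniv
  have hne : ({i, op cs i} : Set I) ≠ Set.univ := by
    intro h
    have : k₀ ∈ ({i, op cs i} : Set I) := by rw [h]; trivial
    rcases this with h | h
    · exact hk₀ h
    · exact hk₀' h
  obtain ⟨a, ha, t, ht, hat⟩ := irr {i, op cs i} ⟨i, Or.inl rfl⟩ hne
  -- `a` and `a*`
  have ha1 : op cs a ≠ a ∧ M a (op cs a) ≠ 2 ∧ t ≠ a ∧ t ≠ op cs a := by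
    have ht1 : t ≠ i := fun h => ht (Or.inl h)
    have ht2 : t ≠ op cs i := fun h => ht (Or.inr h)
    rcases ha with rfl | ha
    · exact ⟨hi, h2, ht1, ht2⟩
    · have ha' : a = op cs i := ha
      subst ha'
      rw [op_op]
      refine ⟨Ne.symm hi, ?_, ht2, ht1⟩
      rwa [M.symmetric]
  obtain ⟨n1, n2, n3, n4⟩ := ha1
  have hop : ∀ {x y : I}, op cs x = y → x = op cs y := by
    intro x y h
    rw [← h, op_op]
  have m1 : M (op cs a) (op cs t) ≠ 2 := by rwa [M_op]
  have hta : op cs t ≠ a := fun h => n4 (hop h)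
  have hta' : op cs t ≠ op cs a := by
    intro h
    apply n3
    have := congrArg (op cs) h
    rwa [op_op, op_op] at this
  have htt : op cs t ≠ t := by
    intro h
    rw [h] at m1
    exact no_triangle cs irr (Ne.symm n1) (Ne.symm n3) (Ne.symm n4) n2 hat m1
  refine ⟨t, htt, ?_⟩
  by_contra h3
  -- the cycle `a, t, t*, a*`
  refine no_four_cycle cs irr (a := a) (b := t) (c := op cs t) (d := op cs a) (Ne.symm n3) (Ne.symm hta) (Ne.symm n1)
    (Ne.symm htt) n4 hta' hat h3 ?_ ?_
  · rwa [M.symmetric]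
  · rwa [M.symmetric]

include irr in
/-- **The dichotomy for the longest element.** -/
theorem dich : (∀ i, w0 cs * cs.simple i * (w0 cs)⁻¹ = cs.simple i) ∨
    (∃ i j, i ≠ j ∧ M i j = 2 ∧ w0 cs * cs.simple i * (w0 cs)⁻¹ = cs.simple j ∧
      w0 cs * cs.simple j * (w0 cs)⁻¹ = cs.simple i) ∨
    (∃ i j, i ≠ j ∧ (∀ k, k = i ∨ k = j) ∧ Odd (M i j)) := by
  rcases dich_op cs irr with h | ⟨i, h1, h2⟩ | ⟨i, h1, h2, h3⟩
  · left
    intro i
    rw [conj_eq, h]
  · right; left
    exact ⟨i, op cs i, Ne.symm h1, h2, conj_eq cs i, by rw [conj_eq, op_op]⟩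
  · right; right
    exact ⟨i, op cs i, Ne.symm h1, h2, h3⟩

include irr in
/-- The form with `wJ cs Set.univ`. -/
theorem dich' : (∀ i, wJ cs Set.univ * cs.simple i * (wJ cs Set.univ)⁻¹ = cs.simple i) ∨
    (∃ i j, i ≠ j ∧ M i j = 2 ∧ wJ cs Set.univ * cs.simple i * (wJ cs Set.univ)⁻¹ = cs.simple j ∧
      wJ cs Set.univ * cs.simple j * (wJ cs Set.univ)⁻¹ = cs.simple i) ∨
    (∃ i j, i ≠ j ∧ (∀ k, k = i ∨ k = j) ∧ Odd (M i j)) := dich cs irr

end W0

end Cfsg.Agent.H234.AAW0
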