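import Cfsg.Agent.H169.CycDvd

/-!
# Multiplicities of cyclotomic polynomials in the characteristic polynomial (helper234)

`θ` an endomorphism of finite order of a free `ℤ`-module of rank `l`, `q` of order `n` modulo the prime `r` and of order `m`
modulo the prime `s`, `n ≠ m`: if `(r ^ v) ^ a` divides `χ_θ(q)`, where `r ^ v` is the `r`-part of `Φ_n(q)`, and `s ∣ χ_θ(q)`,
then `a φ(n) + φ(m) ≤ l`.
-/

set_option autoImplicit false

namespace Cfsg.Agent.H234.CycMult

open Polynomial Module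

variable {M : Type*} [AddCommGroup M] [Module.Free ℤ M] [Module.Finite ℤ M]

/-- the characteristic polynomial is a product of cyclotomic polynomials -/
theorem exists_multiset (θ : Module.End ℤ M) {N : ℕ} (hN : 0 < N) (hθ : θ ^ N = 1) :
    ∃ J : Multiset ℕ, (∀ j ∈ J, 0 < j) ∧ θ.charpoly = (J.map (fun j => cyclotomic j ℤ)).prod := by
  have key : ∀ (d : ℕ) (g : ℤ[X]), g.natDegree ≤ d → g.Monic → g ∣ θ.charpoly →
      ∃ J : Multiset ℕ, (∀ j ∈ J, 0 < j) ∧ g = (J.map (fun j => cyclotomic j ℤ)).prod := by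
    intro d
    induction d with
    | zero =>
      intro g hg hgm _
      exact ⟨0, by simp, by rw [hgm.natDegree_eq_zero.1 (Nat.le_zero.1 hg)]; simp⟩
    | succ d ih =>
      intro g hg hgm hgd
      by_cases hirr : Irreducible g
      · obtain ⟨k, hk, hk'⟩ := H169.CycDvd.eq_cyclotomic θ hN hθ hirr hgm hgd
        exact ⟨{k}, by simpa using hk, by simpa using hk'⟩
      · by_cases hg1 : g = 1
        · exact ⟨0, by simp, by rw [hg1]; simp⟩
        · rw [hgm.irreducible_iff_natDegree] at hirr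
          push Not at hirr
          obtain ⟨a, b, ha, hb, hab, hda, hdb⟩ := hirr hg1
          have hdeg := ha.natDegree_mul hb
          rw [hab] at hdeg
          obtain ⟨J1, h1, h2⟩ := ih a (by omega) ha ((Dvd.intro b hab).trans hgd)
          obtain ⟨J2, h3, h4⟩ := ih b (by omega) hb ((Dvd.intro_left a hab).trans hgd)
          refine ⟨J1 + J2, fun j hj => ?_, ?_⟩
          · rcases Multiset.mem_add.1 hj with h | h
            · exact h1 j h
            · exact h3 j h
          · rw [Multiset.map_add, Multiset.prod_add, ← h2, ← h4, hab]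
  exact key _ _ le_rfl (LinearMap.charpoly_monic θ) dvd_rfl

/-- the degree -/
theorem natDegree_prod (J : Multiset ℕ) :
    ((J.map (fun j => cyclotomic j ℤ)).prod).natDegree = (J.map Nat.totient).sum := by
  induction J using Multiset.induction_on with
  | empty => simp
  | cons a J ih =>
    rw [Multiset.map_cons, Multiset.prod_cons, Multiset.map_cons, Multiset.sum_cons,
      (cyclotomic.monic a ℤ).natDegree_mul (monic_multiset_prod_of_monic _ _ fun j _ => cyclotomic.monic j ℤ), ih,
      natDegree_cyclotomic]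

/-- `r ∣ Φ_j(q)` : `j = n r^i` -/
theorem eq_of_dvd {r : ℕ} (hr : r.Prime) {q : ℤ} {j : ℕ} (hj : 0 < j)
    (h : (r : ℤ) ∣ (cyclotomic j ℤ).eval q) {l : ℕ} (hjl : j.totient ≤ l)
    (hl : l < (orderOf (q : ZMod r)).totient * (r - 1)) : j = orderOf (q : ZMod r) := by
  have hrf : Fact r.Prime := ⟨hr⟩
  obtain ⟨i, j', hj', rfl⟩ := Nat.exists_eq_pow_mul_and_not_dvd hj.ne' r hr.ne_one
  have hkz : NeZero (j' : ZMod r) := ⟨by
    rw [Ne, ZMod.natCast_eq_zero_iff]
    exact hj'⟩
  have hroot : IsRoot (cyclotomic (r ^ i * j') (ZMod r)) (q : ZMod r) := by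
    rw [← map_cyclotomic _ (Int.castRingHom (ZMod r)), IsRoot, eval_map]
    have h1 : eval₂ (Int.castRingHom (ZMod r)) (q : ZMod r) (cyclotomic (r ^ i * j') ℤ) =
        Int.castRingHom (ZMod r) (eval q (cyclotomic (r ^ i * j') ℤ)) := by
      simp
    rw [h1]
    exact (ZMod.intCast_zmod_eq_zero_iff_dvd _ _).2 h
  rw [isRoot_cyclotomic_prime_pow_mul_iff_of_charP] at hroot
  have h2 := hroot.eq_orderOf
  rcases Nat.eq_zero_or_pos i with h0 | h0
  · rw [h0, pow_zero, one_mul, h2]
  · exfalso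
    have h3 : (r ^ i * j').totient = (r ^ i).totient * j'.totient :=
      Nat.totient_mul (Nat.Coprime.pow_left _ ((Nat.Prime.coprime_iff_not_dvd hr).2 hj'))
    have h4 : r - 1 ≤ (r ^ i).totient := by
      have h5 : r ∣ r ^ i := dvd_pow_self r h0.ne'
      have h6 := Nat.le_of_dvd (Nat.totient_pos.2 (pow_pos hr.pos i)) (Nat.totient_dvd_of_dvd h5)
      rwa [Nat.totient_prime hr] at h6
    have h5 : j'.totient * (r - 1) ≤ (r ^ i * j').totient := by
      rw [h3, mul_comm]
      exact Nat.mul_le_mul_right _ h4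
    rw [← h2] at hl
    omega

/-- **Multiplicities.** -/
theorem mul_totient_add_le (θ : Module.End ℤ M) {N : ℕ} (hN : 0 < N) (hθ : θ ^ N = 1) {r s : ℕ} (hr : r.Prime)
    (hs : s.Prime) {q : ℤ} (hrl : finrank ℤ M < (orderOf (q : ZMod r)).totient * (r - 1))
    (hsl : finrank ℤ M < (orderOf (q : ZMod s)).totient * (s - 1)) {v a : ℕ} (hv : 0 < v) {b : ℤ}
    (hb : (cyclotomic (orderOf (q : ZMod r)) ℤ).eval q = (r ^ v : ℕ) * b) (hrb : ¬ (r : ℤ) ∣ b)
    (hqr : (((r ^ v) ^ a : ℕ) : ℤ) ∣ θ.charpoly.eval q) (hqs : (s : ℤ) ∣ θ.charpoly.eval q)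
    (hne : orderOf (q : ZMod r) ≠ orderOf (q : ZMod s)) :
    a * (orderOf (q : ZMod r)).totient + (orderOf (q : ZMod s)).totient ≤ finrank ℤ M := by
  classical
  obtain ⟨n, hn⟩ : ∃ n, n = orderOf (q : ZMod r) := ⟨_, rfl⟩
  obtain ⟨m, hm⟩ : ∃ m, m = orderOf (q : ZMod s) := ⟨_, rfl⟩
  obtain ⟨J, hJ0, hJ⟩ := exists_multiset θ hN hθ
  have hrZ := Nat.prime_iff_prime_int.1 hr
  have hsZ := Nat.prime_iff_prime_int.1 hs
  have hdeg : (J.map Nat.totient).sum = finrank ℤ M := by
    rw [← natDegree_prod, ← hJ, LinearMap.charpoly_natDegree]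
  have hle : ∀ j ∈ J, j.totient ≤ finrank ℤ M := by
    intro j hj
    rw [← hdeg]
    exact Multiset.single_le_sum (fun _ _ => Nat.zero_le _) _ (Multiset.mem_map_of_mem _ hj)
  have heval : θ.charpoly.eval q = (J.map (fun j => (cyclotomic j ℤ).eval q)).prod := by
    rw [hJ, eval_multiset_prod, Multiset.map_map]
    rfl
  -- `m ∈ J`
  have hmJ : m ∈ J := by
    rw [heval] at hqs
    obtain ⟨x, hx, hx'⟩ := hsZ.exists_mem_multiset_dvd hqs
    obtain ⟨j, hj, rfl⟩ := Multiset.mem_map.1 hx
    have := eq_of_dvd hs (hJ0 j hj) hx' (hle j hj) hsl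
    rw [hm, ← this]
    exact hj
  -- the multiplicity of `n`
  have hcount : a ≤ J.count n := by
    have h1 : J = J.filter (fun j => n = j) + J.filter (fun j => ¬ n = j) := (Multiset.filter_add_not _ J).symm
    have h2 : θ.charpoly.eval q = ((cyclotomic n ℤ).eval q) ^ J.count n *
        ((J.filter (fun j => ¬ n = j)).map (fun j => (cyclotomic j ℤ).eval q)).prod := by
      rw [heval]
      conv_lhs => rw [h1]
      rw [Multiset.map_add, Multiset.prod_add]
      congr 1
      rw [Multiset.filter_eq, Multiset.map_replicate, Multiset.prod_replicate]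
    have h3 : ¬ (r : ℤ) ∣ ((J.filter (fun j => ¬ n = j)).map (fun j => (cyclotomic j ℤ).eval q)).prod := by
      intro h
      obtain ⟨x, hx, hx'⟩ := hrZ.exists_mem_multiset_dvd h
      obtain ⟨j, hj, rfl⟩ := Multiset.mem_map.1 hx
      obtain ⟨hj1, hj2⟩ := Multiset.mem_filter.1 hj
      exact hj2 (by rw [hn]; exact (eq_of_dvd hr (hJ0 j hj1) hx' (hle j hj1) hrl).symm)
    have h4 : IsCoprime (((r ^ v) ^ a : ℕ) : ℤ)
        ((J.filter (fun j => ¬ n = j)).map (fun j => (cyclotomic j ℤ).eval q)).prod := by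
      push_cast
      apply IsCoprime.pow_left
      apply IsCoprime.pow_left
      rw [hrZ.irreducible.coprime_iff_not_dvd]
      exact h3
    rw [h2] at hqr
    have h5 := h4.dvd_of_dvd_mul_right hqr
    rw [hn, hb, mul_pow] at h5
    have h6 : IsCoprime (((r ^ v) ^ a : ℕ) : ℤ) (b ^ J.count n) := by
      push_cast
      apply IsCoprime.pow_left
      apply IsCoprime.pow_left
      apply IsCoprime.pow_right
      rw [hrZ.irreducible.coprime_iff_not_dvd]
      exact hrb
    rw [hn] at h6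
    have h7 := h6.dvd_of_dvd_mul_right h5
    have h8 : (r ^ v) ^ a ∣ (r ^ v) ^ J.count (orderOf (q : ZMod r)) := by
      exact_mod_cast h7
    rw [hn]
    exact (Nat.pow_dvd_pow_iff_le_right (Nat.one_lt_pow hv.ne' hr.one_lt)).1 h8
  -- the degrees
  have hmn : n ≠ m := by rw [hn, hm]; exact hne
  have h1 : J.count n * n.totient + m.totient ≤ (J.map Nat.totient).sum := by
    obtain ⟨J', rfl⟩ := Multiset.exists_cons_of_mem hmJ
    rw [Multiset.map_cons, Multiset.sum_cons, Multiset.count_cons_of_ne hmn, add_comm]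
    refine Nat.add_le_add_left ?_ _
    have h2 : J' = J'.filter (fun j => n = j) + J'.filter (fun j => ¬ n = j) := (Multiset.filter_add_not _ J').symm
    conv_rhs => rw [h2]
    rw [Multiset.map_add, Multiset.sum_add, Multiset.filter_eq, Multiset.map_replicate, Multiset.sum_replicate,
      smul_eq_mul]
    exact Nat.le_add_right _ _
  rw [hdeg] at h1
  rw [← hn, ← hm]
  exact le_trans (Nat.add_le_add_right (Nat.mul_le_mul_right _ hcount) _) h1

end Cfsg.Agent.H234.CycMult
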