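import Mathlib
import Cfsg.Prelude.Def_LieTypeChar
import Cfsg.Agent.H234.NoKlein
import Cfsg.Agent.S0813
import Cfsg.Agent.S1152
import Cfsg.Agent.S1157
import Cfsg.Agent.H26.SolvPPrime
import Cfsg.Agent.LieClassical.SLGen
import Cfsg.Agent.ClassicalGeometry.PSL2Basic
import Cfsg.Agent.ClassicalGeometry.AutPSL.SylowU

/-!
# Four-groups centralising a subgroup `L₃(3)` of a group of Lie type of characteristic `3` (helper234, for S3140)
-/

set_option autoImplicit false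

namespace Cfsg.Agent.H234.NoKleinL3

open Subgroup Cfsg Matrix Cfsg.Agent.ClassicalGeometry.AutPSL Cfsg.Agent.ClassicalGeometry.AutPSL.SylowU
open Cfsg.Agent.ClassicalGeometry.AutPSL.Root Cfsg.Agent.ClassicalGeometry.AutPSL.Auto Cfsg.Agent.ClassicalGeometry.AutPSL.Frame

universe u

/-- the order of the small Ree groups is not divisible by 16 -/
theorem ree {L : Type*} [Group L] (hL : Cfsg.Lie.IsoRee L) : ¬ 16 ∣ Nat.card L := by
  obtain ⟨F, _, _, m, hm, hF, ⟨e⟩⟩ := hL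
  obtain ⟨u, huH, hu1, hu2⟩ := Cfsg.Agent.S1157.exists_involution hF
  obtain ⟨-, hS⟩ := Cfsg.Agent.S1152.result hF u huH hu1 hu2
  have hfin : Finite ↥(Cfsg.Lie.twistedG2 F (3 ^ m)) := inferInstance
  have hfac : Fact (Nat.Prime 2) := ⟨Nat.prime_two⟩
  intro h16
  rw [Nat.card_congr e.toEquiv] at h16
  obtain ⟨S⟩ := (inferInstance : Nonempty (Sylow 2 ↥(Cfsg.Lie.twistedG2 F (3 ^ m))))
  obtain ⟨h8, -⟩ := hS S
  have h1 : 2 ^ 4 ∣ Nat.card (S : Subgroup ↥(Cfsg.Lie.twistedG2 F (3 ^ m))) :=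
    S.pow_dvd_card_of_pow_dvd_card (by norm_num; exact h16)
  rw [h8] at h1
  norm_num at h1

theorem not_dvd_aut {F : Type} [Field F] [Fintype F] (hF : Fintype.card F = 3) :
    ¬ 81 ∣ Nat.card (MulAut (Matrix.ProjectiveSpecialLinearGroup (Fin 3) F)) := by
  have : Fact (Nat.Prime 3) := ⟨Nat.prime_three⟩
  rw [S0813.result (F := F) 3 1 le_rfl (by rw [hF]; norm_num) 3 (by norm_num) (by norm_num)]
  have h1 := ClassicalGeometry.PSL2Basic.card_PGL_mul (Fin 3) F
  have h2 : Nat.card (GL (Fin 3) F) = ∏ i : Fin 3, (Fintype.card F ^ 3 - Fintype.card F ^ (i : ℕ)) :=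
    Matrix.card_GL_field 3
  rw [h2, Fin.prod_univ_three, hF] at h1
  norm_num at h1 ⊢
  have h3 : Nat.card (Matrix.ProjGenLinGroup (Fin 3) F) = 5616 := by omega
  rw [h3]
  norm_num

/-- a nonabelian subgroup of order `27` -/
theorem exists_sub {F : Type} [Field F] [Fintype F] (hF : Fintype.card F = 3) :
    ∃ S : Subgroup (Matrix.ProjectiveSpecialLinearGroup (Fin 3) F), Nat.card S = 27 ∧ ∃ x ∈ S, ∃ y ∈ S, x * y ≠ y * x := by
  refine ⟨(upper 3 F).map pr, ?_, ?_⟩
  · rw [card_map_upper, hF]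
    norm_num
  · have h01 : (0 : Fin 3) < 1 := by decide
    have h12 : (1 : Fin 3) < 2 := by decide
    have hx := transvection_mem_upper (F := F) h01 1
    have hy := transvection_mem_upper (F := F) h12 1
    refine ⟨_, ⟨_, hx, rfl⟩, _, ⟨_, hy, rfl⟩, fun h => ?_⟩
    rw [← map_mul, ← map_mul] at h
    have h2 := pr_injOn_upper ((upper 3 F).mul_mem hx hy) ((upper 3 F).mul_mem hy hx) h
    have h3 := congrArg (fun g : SpecialLinearGroup (Fin 3) F => (g : Matrix (Fin 3) (Fin 3) F) 0 2) h2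
    change ((1 + single 0 1 1 : Matrix (Fin 3) (Fin 3) F) * (1 + single 1 2 1 : Matrix (Fin 3) (Fin 3) F)) 0 2 =
      ((1 + single 1 2 1 : Matrix (Fin 3) (Fin 3) F) * (1 + single 0 1 1 : Matrix (Fin 3) (Fin 3) F)) 0 2 at h3
    simp [Matrix.mul_apply, Fin.sum_univ_three, Matrix.single_apply, Matrix.one_apply] at h3

theorem no_klein {X : Type u} [Group X] [Finite X] [IsSimpleGroup X] (hX : IsLieTypeChar 3 X)
    (h5 : 3 ^ 5 ∣ Nat.card X) (A : Subgroup X) {F : Type} [Field F] [Fintype F] (hF : Fintype.card F = 3)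
    (e : ↥A ≃* Matrix.ProjectiveSpecialLinearGroup (Fin 3) F) (V : Subgroup (MulAut X)) (hV : IsKleinFour ↥V)
    (hfix : ∀ v ∈ V, ∀ a ∈ A, v a = a)
    (hn : ∀ v ∈ V, v ≠ 1 → ∀ g : X, v g = g → ∀ a ∈ A, g * a * g⁻¹ ∈ A) : False := by
  have : Fact (Nat.Prime 3) := ⟨Nat.prime_three⟩
  have hcard : Nat.card ↥A = 5616 := by
    rw [Nat.card_congr e.toEquiv, H26.SolvPPrime.card_psl_three hF]
  have hAX : 5616 ∣ Nat.card X := hcard ▸ Subgroup.card_subgroup_dvd_card A
  have hsimp : IsSimpleGroup (Matrix.ProjectiveSpecialLinearGroup (Fin 3) F) :=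
    LieClassical.SLGen.psl_isSimpleGroup (by rw [Fintype.card_fin])
  have hA : IsSimpleGroup ↥A := e.isSimpleGroup
  have hL : KFacts.RgdLieCharP.IsLieFilt 3 X := by
    rcases hX with h | h | h | h | h | h | h | h | h | h | h
    · exact Or.inl h
    · exact Or.inr (Or.inl h)
    · exact Or.inr (Or.inr (Or.inl h))
    · exact Or.inr (Or.inr (Or.inr (Or.inl h)))
    · exact Or.inr (Or.inr (Or.inr (Or.inr (Or.inl h))))
    · exact Or.inr (Or.inr (Or.inr (Or.inr (Or.inr (Or.inl h)))))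
    · exact Or.inr (Or.inr (Or.inr (Or.inr (Or.inr (Or.inr (Or.inl h))))))
    · exact Or.inr (Or.inr (Or.inr (Or.inr (Or.inr (Or.inr (Or.inr h))))))
    · exact absurd h.1 (by norm_num)
    · exact absurd h.1 (by norm_num)
    · exact absurd ((by norm_num : 16 ∣ 5616).trans hAX) (ree h.2)
  have hG := KFacts.RgdLieCharP.hasFilt_of_lie hL
  obtain ⟨S, hS27, x, hx, y, hy, hxy⟩ := exists_sub hF
  -- transport
  let f : Matrix.ProjectiveSpecialLinearGroup (Fin 3) F →* X := A.subtype.comp e.symm.toMonoidHom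
  have hf : Function.Injective f := A.subtype_injective.comp e.symm.injective
  have hP27 : Nat.card (S.map f) = 27 := by
    rw [Subgroup.card_map_of_injective hf, hS27]
  have hPA : S.map f ≤ A := by
    rintro _ ⟨s, -, rfl⟩
    exact (e.symm s).2
  have hPna : ∃ x ∈ S.map f, ∃ y ∈ S.map f, x * y ≠ y * x :=
    ⟨f x, ⟨x, hx, rfl⟩, f y, ⟨y, hy, rfl⟩, fun h => hxy (hf (by rw [map_mul, map_mul, h]))⟩
  have hA3 : ¬ IsPGroup 3 A := by
    intro h
    obtain ⟨k, hk⟩ := IsPGroup.iff_card.1 h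
    rw [hcard] at hk
    have h13 : 13 ∣ 3 ^ k := by rw [← hk]; norm_num
    have := (Nat.Prime.dvd_of_dvd_pow (by norm_num) h13)
    norm_num at this
  refine NoKlein.main hG ?_ hPA hP27 hPna ?_ hA3 ?_ hV hfix hn h5
  · obtain ⟨x, -, y, -, h⟩ := hPna
    exact ⟨x, y, h⟩
  · intro N hNA hAN hN
    have hnorm : (N.subgroupOf A).Normal := by
      refine ⟨fun n hn g => ?_⟩
      rw [mem_subgroupOf] at hn ⊢
      exact (mem_normalizer_iff.1 (hAN g.2) n).1 hn
    rcases hnorm.eq_bot_or_eq_top with h | h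
    · rw [subgroupOf_eq_bot] at h
      exact disjoint_self.1 (h.mono_right hNA)
    · exfalso
      rw [subgroupOf_eq_top] at h
      exact hA3 (hN.to_le h)
  · rw [Nat.card_congr (MulAut.congr e).toEquiv]
    exact not_dvd_aut hF

end Cfsg.Agent.H234.NoKleinL3
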