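import Cfsg.Agent.H234.NotCondMult
import Cfsg.Agent.H130.WeylTab

/-!
# `Cond` fails in `E₇(q)` for primes of orders `4` and `m`, `φ(m) ≥ 4` (helper234)

* `Setup.not_cond_mult_cert` : `Setup.not_cond_mult` from a certificate;
* `not_cond_E7_four`.
-/

set_option autoImplicit false
set_option linter.unusedSectionVars false

namespace Cfsg.Agent.H234.NotCond

open CoxeterSystem Cfsg Cfsg.Lie Cfsg.Lie.ChevalleyDatum
open Cfsg.Agent.ChevalleyStructure Cfsg.Agent.ChevalleyStructure.Elts Cfsg.Agent.ChevalleyStructure.CoxeterGeom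
  Cfsg.Agent.ChevalleyStructure.CoxeterGeomTypes Cfsg.Agent.ChevalleyStructure.NPerm
open Cfsg.Agent.Tits.Roots Cfsg.Agent.Tits.Core Cfsg.Agent.Nodes Cfsg.Agent.Nodes.Reps Cfsg.Agent.Nodes.BNOf
  Cfsg.Agent.Nodes.RGDChev Cfsg.Agent.Nodes.Bruhat Cfsg.Agent.Nodes.SubComb Cfsg.Agent.Nodes.Coroot
open Cfsg.Agent.KFacts.RgdField Cfsg.Agent.KFacts.RgdChevCoord Cfsg.Agent.BpExc.TorCent Cfsg.Agent.BpExc.TorChev
open Cfsg.Agent.GpExc.Field Cfsg.Agent.BpExc.Tow Cfsg.Agent.BpExc.TowChev Cfsg.Agent.BpExc.Fr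
  Cfsg.Agent.BpExc.LangFr Cfsg.Agent.LangThm Cfsg.Agent.BpExc Cfsg.Agent.H129.TorusChar Cfsg.Agent.H129.TorusMain
open Cfsg.Agent.H630.NH Cfsg.Agent.H630.Exc
open Cfsg.Agent.H130.WeylCk Cfsg.Agent.H130.PolyL Cfsg.Agent.H130.WeylTab
open Cfsg.Agent.BpExc.RowsUntw (e7T)

universe u v

section Cert

variable {D : ChevalleyDatum} {l : ℕ} {M : CoxeterMatrix (Fin l)} (hp : IsType D l M) {k' : Type u} [Field k']
  {W : Type*} [Group W] (cs : CoxeterSystem M W)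
  {p e : ℕ} [Fact p.Prime] [CharP k' p] {σ : MulAut ↥(D.group k')} {g : (Fin l → ℤ) ≃+ (Fin l → ℤ)}
  {X : Type v} [Group X] {e0 : X →* ↥(D.group k')} {d : ℕ} (S : Setup hp cs p e σ g e0 d)

theorem rep_pow_one' {Al : List (List ℤ)} (hA : MatList (cartanOf D l) Al) (word : List (Fin l)) (k n : ℕ)
    (h : ∀ i : Fin l, acn Al word (k * n) (bas l i) = bas l i) :
    rep cs hp.isCartan (cs.wordProd word ^ k) ^ n = 1 := by
  apply LinearMap.pi_ext'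
  intro i
  apply LinearMap.ext_ring
  show (rep cs hp.isCartan (cs.wordProd word ^ k) ^ n) (Pi.single i 1) = Pi.single i 1
  rw [← toFn_bas, map_pow, ← pow_mul, ← toFn_acn cs hp.isCartan hA word _ _ (length_bas i.1), h i]

include S

/-- **`Cond` fails if `a φ(n) + φ(m) > l`**, from a certificate. -/
theorem Setup.not_cond_mult_cert [IsAlgClosed k'] [Finite W] [Finite X] (hka : BpExc.TorAll.HAlg p k') {π : Set ℕ}
    {r s : ℕ} (hrp : r.Prime) (hsp : s.Prime) (hr : r ∈ π) (hs : s ∈ π) (hrs : r ≠ s) (hrc : r ≠ p) (hsc : s ≠ p)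
    (hrd : ¬ r ∣ d) (hr2 : r ≠ 2) (hsX : s ∣ Nat.card X) {ε : ℤ} (hε : ε = 1 ∨ ε = -1)
    {Al : List (List ℤ)} (hA : MatList (cartanOf D l) Al) {word : List (Fin l)} {k : ℕ}
    (hT : HasTor hp cs g ε (cs.wordProd word ^ k)) {Q : ℤ} (hQ : Q = ε * (p ^ e : ℕ)) {n : ℕ}
    (hn : orderOf (Q : ZMod r) = n) (hni : n ∈ H130.PolyL.idx) {a : ℕ} {c : ℤ} {xs ys : List (List ℤ)}
    (H : Cert Al l n a word k c xs ys) (hc : ¬ (r : ℤ) ∣ c)
    (hls : l + 1 < s) (hlr : l < n.totient * (r - 1)) (hne : n ≠ orderOf (Q : ZMod s))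
    (hbig : l < a * n.totient + (orderOf (Q : ZMod s)).totient) : ¬ Cond π X := by
  obtain ⟨h1, h2, h3, h4⟩ := H
  refine Setup.not_cond_mult hp cs S hka hrp hsp hr hs hrs hrc hsc hrd hr2 hsX hε hT hQ hn
    (rep_pow_one' hp cs hA word k n h1)
    (fun i => toFn l (xs.getD i [])) (fun i => fn l (ys.getD i [])) c hc ?_ ?_ hls hlr hne hbig
  · intro i
    rw [cyclotomic_eq _ hni, ← toFn_horner cs hp.isCartan hA word k _ (h2 i).1, h3 i, toFn_replicate]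
  · intro i i' j hj
    have hdeg := natDegree_cyclotomic_eq hni
    have h5 := h4 i i' ⟨j, by omega⟩
    have h6 : (fn l (ys.getD i [])) ((rep cs hp.isCartan (cs.wordProd word ^ k) ^ j) (toFn l (xs.getD i' []))) =
        dot (ys.getD i []) (acn Al word (k * j) (xs.getD i' [])) := by
      rw [dot_eq _ _ (h2 i).2 (by rw [length_acn, (h2 i').1]), toFn_acn cs hp.isCartan hA word _ _ (h2 i').1, map_pow,
        ← pow_mul]
      rfl
    rw [h6, h5]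
    congr 1
    apply propext
    constructor
    · rintro ⟨h7, h8⟩
      exact ⟨h7, by simp only at h8; omega⟩
    · rintro ⟨h7, h8⟩
      exact ⟨h7, by simp only; omega⟩

end Cert

theorem cert_E7_4 : Cert alE7 7 4 2 [4, 1, 6, 5, 6, 2, 6, 6, 3] 2 2 [[0, 0, 0, 1, 0, 0, 0], [0, 1, 1, 0, 0, 0, 0]]
    [[0, 0, 0, 0, -2, 2, 0], [0, 0, 0, 0, -1, 2, 0]] := by decide +kernel

section E7

variable {k' : Type u} [Field k'] {W : Type*} [Group W] (cs : CoxeterSystem CoxeterMatrix.E₇ W)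
  {p e : ℕ} [Fact p.Prime] [CharP k' p] {σ : MulAut ↥(chevE7.group k')}
  {X : Type v} [Group X] {e0 : X →* ↥(chevE7.group k')} {d : ℕ}

/-- **`E₇(q)`**: primes `r`, `s` with `q` of order `4` modulo `r` and of order `m`, `φ(m) ≥ 4`, modulo `s`. -/
theorem not_cond_E7_four' [IsAlgClosed k'] [Finite W] [Finite X] (hka : BpExc.TorAll.HAlg p k')
    (S : Setup e7T cs p e σ (AddEquiv.refl _) e0 d) {π : Set ℕ} {r s : ℕ} (hrp : r.Prime) (hsp : s.Prime) (hr : r ∈ π)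
    (hs : s ∈ π) (hrs : r ≠ s) (hrc : r ≠ p) (hsc : s ≠ p) (hrd : ¬ r ∣ d) (hsX : s ∣ Nat.card X) {Q : ℤ}
    (hQ : Q = 1 * (p ^ e : ℕ)) (h8 : 8 < s) (hn : orderOf (Q : ZMod r) = 4) (hne : orderOf (Q : ZMod s) ≠ 4)
    (hm : 4 ≤ (orderOf (Q : ZMod s)).totient) : ¬ Cond π X := by
  have hpp : p.Prime := Fact.out
  have hQr : ¬ (r : ℤ) ∣ Q := by
    intro h2
    rw [hQ, one_mul] at h2
    exact hrc ((Nat.prime_dvd_prime_iff_eq hrp hpp).1 (hrp.dvd_of_dvd_pow (Int.natCast_dvd_natCast.1 h2)))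
  have h4 : 4 ∣ r - 1 := by
    have := ord_dvd hrp hQr
    rwa [hn] at this
  have hr4 : 5 ≤ r := by
    have h2 := hrp.two_le
    have := Nat.le_of_dvd (by omega) h4
    omega
  have ht4 : Nat.totient 4 = 2 := by decide
  refine Setup.not_cond_mult_cert e7T cs S hka hrp hsp hr hs hrs hrc hsc hrd (by omega) hsX (Or.inl rfl) lists_E7
    (word := [4, 1, 6, 5, 6, 2, 6, 6, 3]) (k := 2) ⟨cs.wordProd [4, 1, 6, 5, 6, 2, 6, 6, 3] ^ 2, fun x => ?_⟩ hQ hn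
    (by decide) cert_E7_4 ?_ (by omega) (by rw [ht4]; omega) (fun h => hne h.symm)
    (by rw [ht4]; omega)
  · rw [one_smul]
    rfl
  · intro h
    have h5 := Nat.le_of_dvd (by norm_num) (Int.natCast_dvd_natCast.1 (by exact_mod_cast h : (r : ℤ) ∣ ((2 : ℕ) : ℤ)))
    omega

theorem not_cond_E7_four [IsAlgClosed k'] [Finite W] [Finite X] (hka : BpExc.TorAll.HAlg p k')
    (S : Setup e7T cs p e σ (AddEquiv.refl _) e0 d) {π : Set ℕ} {r s : ℕ} (hrp : r.Prime) (hsp : s.Prime) (hr : r ∈ π)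
    (hs : s ∈ π) (hrs : r ≠ s) (hrc : r ≠ p) (hsc : s ≠ p) (hrd : ¬ r ∣ d) (hsX : s ∣ Nat.card X)
    (h8 : 8 < s) (hn : orderOf ((p ^ e : ℕ) : ZMod r) = 4) (hne : orderOf ((p ^ e : ℕ) : ZMod s) ≠ 4)
    (hm : 4 ≤ (orderOf ((p ^ e : ℕ) : ZMod s)).totient) : ¬ Cond π X := by
  have h1 : ∀ t : ℕ, (((1 * ((p ^ e : ℕ) : ℤ) : ℤ)) : ZMod t) = ((p ^ e : ℕ) : ZMod t) := by
    intro t
    rw [one_mul, Int.cast_natCast]
  exact not_cond_E7_four' cs hka S hrp hsp hr hs hrs hrc hsc hrd hsX rfl h8 (by rw [h1]; exact hn)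
    (by rw [h1]; exact hne) (by rw [h1]; exact hm)

end E7

end Cfsg.Agent.H234.NotCond
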