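import Cfsg.Agent.H904.TorPQ
import Cfsg.Agent.H944.TorAnyChev

/-!
# Simultaneous torality (helper234)

`R : RGD cs h p T n X`, `Y` finite, `GG = ⊤`, `A ≤ T`, `s` an element of prime order `b ∤ |W|` commuting with `A`:

* `card_fix_fam` : the number of chambers fixed by `A`;
* `exists_fix_fam` : a chamber fixed by `A` and `s`;
* `exists_conj_fam` : `g A g⁻¹ ≤ T` and `g s g⁻¹ ∈ T` for some `g`;
* `exists_conj_TT_fam` : the same in `D.group k`, `k` algebraically closed.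
-/

set_option autoImplicit false
set_option linter.unusedSectionVars false

namespace Cfsg.Agent.H234.TorFam

open CoxeterSystem Cfsg.Agent.ChevalleyStructure.CoxeterGeom Cfsg.Agent.Tits.Roots Cfsg.Agent.Tits.Core
  Cfsg.Agent.Tits.RootComb Cfsg.Agent.Tits.Exchange Cfsg.Agent.Nodes.Reps Cfsg.Agent.Nodes.BNOf
  Cfsg.Agent.Nodes.Comb Cfsg.Agent.Nodes.BNOf.RGD Cfsg.Agent.Nodes.Unique Cfsg.Agent.Nodes.CardSup
  Cfsg.Agent.Nodes.StabComb Cfsg.Agent.Nodes.Bruhat Cfsg.Agent.Nodes.OppDec Cfsg.Agent.Nodes.LeviDec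
  Cfsg.Agent.Nodes.NormalForm Cfsg.Agent.KFacts.RgdOpp Cfsg.Agent.KFacts.RgdAut Cfsg.Agent.KFacts.RgdDiag
  Cfsg.Agent.KFacts.RgdRigid Cfsg.Agent.CpAut.RgdFix Cfsg.Agent.CpAut.RgdCoh Cfsg.Agent.CpAut.RgdConj
  Cfsg.Agent.BpExc.TorRgd Cfsg.Agent.BpExc
open Cfsg.Agent.H944.TorAny Cfsg.Agent.H904.TorPQ
open scoped commutatorElement Pointwise

section SZ

variable {G : Type*} [Group G] [Finite G]

/-- **Schur–Zassenhaus for a subgroup**: a `p'`-subgroup `Q` of `U T` is conjugate into `T`. -/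
theorem exists_conj_sub {p : ℕ} [hp : Fact p.Prime] {U T Q : Subgroup G} (hT : T ≤ Subgroup.normalizer (U : Set G))
    (hdis : U ⊓ T = ⊥) (hU : IsPGroup p U) (hQ : ∀ x ∈ Q, ∃ u ∈ U, ∃ t ∈ T, x = u * t)
    (hQp : (Nat.card Q).Coprime p) : ∃ g : G, ∀ x ∈ Q, g * x * g⁻¹ ∈ T := by
  have hQN : Q ≤ Subgroup.normalizer (U : Set G) := by
    intro x hx
    obtain ⟨u, hu, t, ht, rfl⟩ := hQ x hx
    exact mul_mem (Subgroup.le_normalizer hu) (hT ht)
  have hUQ : U ⊓ Q = ⊥ := by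
    rw [eq_bot_iff]
    rintro y ⟨hyU, hyQ⟩
    obtain ⟨n, hn⟩ := hU ⟨y, hyU⟩
    have hn' : y ^ p ^ n = 1 := congrArg Subtype.val hn
    have h1 := orderOf_dvd_of_pow_eq_one hn'
    have h2 : orderOf y ∣ Nat.card Q := by
      have := orderOf_dvd_natCard (⟨y, hyQ⟩ : Q)
      rwa [Subgroup.orderOf_mk] at this
    have h3 := Nat.dvd_gcd h2 h1
    rw [(hQp.pow_right n : Nat.Coprime _ (p ^ n)), Nat.dvd_one, orderOf_eq_one_iff] at h3
    exact h3
  set L := U ⊔ Q with hLdef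
  set T' := T ⊓ L with hT'
  have hT'N : T' ≤ Subgroup.normalizer (U : Set G) := inf_le_left.trans hT
  have hUT' : U ⊓ T' = ⊥ := by
    rw [eq_bot_iff, ← hdis]
    exact inf_le_inf_left _ inf_le_left
  have hL : U ⊔ T' = L := by
    apply le_antisymm
    · exact sup_le le_sup_left inf_le_right
    · refine sup_le le_sup_left fun x hx => ?_
      obtain ⟨u, hu, t, ht, rfl⟩ := hQ x hx
      refine mul_mem (Subgroup.mem_sup_left hu) (Subgroup.mem_sup_right ⟨ht, ?_⟩)
      have h1 : t = u⁻¹ * (u * t) := by group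
      rw [h1]
      exact mul_mem (Subgroup.mem_sup_left (inv_mem hu)) (Subgroup.mem_sup_right hx)
  have hLN : L ≤ Subgroup.normalizer (U : Set G) := sup_le Subgroup.le_normalizer hQN
  have hnorm : (U.subgroupOf L).Normal := Subgroup.normal_subgroupOf_of_le_normalizer hLN
  have c1 := compl_of hQN hUQ
  have c2 := compl_of hT'N hUT'
  rw [hL] at c2
  rw [← hLdef] at c1
  have hsol : Group.IsSolvable ↥(U.subgroupOf L) := by
    have h1 : IsPGroup p ↥(U.subgroupOf L) := hU.comap_of_injective L.subtype L.subtype_injective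
    have := h1.isNilpotent
    infer_instance
  have hidx : (Nat.card ↥(U.subgroupOf L)).Coprime (U.subgroupOf L).index := by
    have h1 : IsPGroup p ↥(U.subgroupOf L) := hU.comap_of_injective L.subtype L.subtype_injective
    obtain ⟨n, hn⟩ := IsPGroup.iff_card.1 h1
    rw [hn]
    apply Nat.Coprime.pow_left
    have h2 : (U.subgroupOf L).index = Nat.card ↥(Q.subgroupOf L) := c1.symm.index_eq_card
    rw [h2]
    have h3 : Nat.card ↥(Q.subgroupOf L) = Nat.card ↥Q :=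
      Nat.card_congr (Subgroup.subgroupOfEquivOfLe le_sup_right).toEquiv
    rw [h3]
    exact hQp.symm
  obtain ⟨g, hg⟩ := Cfsg.Agent.S0001.result (U.subgroupOf L) hidx (Or.inl hsol) _ _ c1 c2
  refine ⟨(g : G), fun x hx => ?_⟩
  have h1 : g * ⟨x, Subgroup.mem_sup_right hx⟩ * g⁻¹ ∈ T'.subgroupOf L := by
    rw [← hg]
    exact Subgroup.smul_mem_pointwise_smul _ (MulAut.conj g) _ (by
      rw [Subgroup.mem_subgroupOf]; exact hx)
  have h2 : (g : G) * x * (g : G)⁻¹ ∈ T' := h1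
  exact h2.1

end SZ

section RG

variable {I W Y : Type*} [Fintype I] [DecidableEq I] [Group W] [Group Y] {M : CoxeterMatrix I}
  {cs : CoxeterSystem M W} {A : I → I → ℤ} {h : IsCartan M A} {p : ℕ} {T : Subgroup Y} {n : I → Y}
  {X : (I → ℤ) → Subgroup Y} (R : RGD cs h p T n X)

include R

theorem diag_of_mem {t : Y} (ht : t ∈ T) : Diag T X (MulAut.conj t) 1 := diag_conj_T R ht

omit R in
theorem mem_cent_iff {Q : Set Y} {v : Y} : v ∈ Subgroup.centralizer Q ↔ ∀ a ∈ Q, MulAut.conj a v = v := by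
  rw [Subgroup.mem_centralizer_iff]
  refine forall₂_congr fun a _ => ?_
  rw [MulAut.conj_apply, mul_inv_eq_iff_eq_mul]

theorem card_fix_fam_fut [Finite W] {Q : Set Y} (hQ : Q ⊆ T) (w : W)
    {s : Finset (I → ℤ)} (hS : (s : Set (I → ℤ)) ⊆ Fut cs h w) (hc : Closed cs h (s : Set (I → ℤ))) :
    Nat.card ↥(Sup X (s : Set (I → ℤ)) ⊓ Subgroup.centralizer Q) =
      ∏ x ∈ s, Nat.card ↥(X x ⊓ Subgroup.centralizer Q) := by
  classical
  induction hn : (Fut cs h w).ncard generalizing w s with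
  | zero =>
    have h1 := (Set.ncard_eq_zero (finite_fut w)).1 hn
    rw [h1, Set.subset_empty_iff, Finset.coe_eq_empty] at hS
    subst hS
    have h2 : Sup X ((∅ : Finset (I → ℤ)) : Set (I → ℤ)) ⊓ Subgroup.centralizer Q = ⊥ := by
      rw [eq_bot_iff]
      refine le_trans inf_le_left (Sup_le fun z hz => ?_)
      simp at hz
    rw [h2, Subgroup.card_bot, Finset.prod_empty]
  | succ k ih =>
    have hne : (Fut cs h w).Nonempty := by
      rw [Set.nonempty_iff_ne_empty]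
      intro h1
      rw [h1, Set.ncard_empty] at hn
      omega
    obtain ⟨y, hy⟩ := hne
    obtain ⟨i, hi⟩ := exists_simple hy
    have hcard : (Fut cs h (w * cs.simple i)).ncard = k := by
      rw [fut_mul hi, Set.ncard_sdiff_singleton_of_mem (mem_fut hi), hn]
      rfl
    have hsub : (s : Set (I → ℤ)) \ {rep cs h w (sr i)} ⊆ Fut cs h (w * cs.simple i) := by
      rw [fut_mul hi]
      exact Set.sdiff_subset_sdiff_left hS
    have hcl := closed_diff hi hS hc
    by_cases hx : rep cs h w (sr i) ∈ s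
    · have e1 : ((s.erase (rep cs h w (sr i)) : Finset (I → ℤ)) : Set (I → ℤ)) =
          (s : Set (I → ℤ)) \ {rep cs h w (sr i)} := Finset.coe_erase _ s
      have key := ih (w * cs.simple i) (s := s.erase (rep cs h w (sr i))) (by rw [e1]; exact hsub)
        (by rw [e1]; exact hcl) hcard
      rw [e1] at key
      rw [← Finset.mul_prod_erase s _ hx, ← key]
      have hpos : (s : Set (I → ℤ)) ⊆ Pos cs h := hS.trans (fut_subset_pos w)
      have hinf : X (rep cs h w (sr i)) ⊓ Sup X ((s : Set (I → ℤ)) \ {rep cs h w (sr i)}) = ⊥ := by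
        rw [eq_bot_iff, ← tail_inf R (w := w) (i := i)]
        exact inf_le_inf_left _ (Sup_mono hsub)
      refine card_mul_of_disjoint
        (inf_le_inf_right _ (le_Sup (S := (s : Set (I → ℤ))) (Finset.mem_coe.2 hx)))
        (inf_le_inf_right _ (Sup_mono Set.sdiff_subset)) ?_ ?_
      · rintro g ⟨hg, hgf⟩
        obtain ⟨a, ha, b, hb, rfl⟩ := (mem_peel R hpos hc (Finset.mem_coe.2 hx)).1 hg
        have hfix : ∀ t ∈ Q, MulAut.conj t a = a ∧ MulAut.conj t b = b := fun t ht =>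
          fix_split R (diag_of_mem R (hQ ht)) (Finset.mem_coe.2 hx) hpos hsub ha hb (mem_cent_iff.1 hgf t ht)
        exact ⟨a, ⟨ha, mem_cent_iff.2 fun t ht => (hfix t ht).1⟩, b, ⟨hb, mem_cent_iff.2 fun t ht => (hfix t ht).2⟩, rfl⟩
      · rw [eq_bot_iff, ← hinf]
        exact inf_le_inf inf_le_left inf_le_left
    · have hs : (s : Set (I → ℤ)) \ {rep cs h w (sr i)} = s :=
        Set.sdiff_singleton_eq_self (fun h => hx (Finset.mem_coe.1 h))
      rw [hs] at hsub
      exact ih (w * cs.simple i) hsub hc hcard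

theorem card_fix_fam_NW_modEq [Finite W] {Q : Set Y} (hQ : Q ⊆ T) {k : ℕ}
    (hk : ∀ x, IsRoot cs h x → Nat.card ↥(X x ⊓ Subgroup.centralizer Q) ≡ 1 [MOD k]) (w : W) :
    Nat.card ↥(Sup X (NW cs h w) ⊓ Subgroup.centralizer Q) ≡ 1 [MOD k] := by
  classical
  have h1 := card_fix_fam_fut R hQ 1 (s := (finite_NW w).toFinset) (by
    rw [fut_one, Set.Finite.coe_toFinset]
    exact fun x hx => ⟨hx.1, hx.2.1⟩) (by
    rw [Set.Finite.coe_toFinset]
    exact closed_NW w)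
  rw [Set.Finite.coe_toFinset] at h1
  rw [h1]
  have h2 : ∀ s : Finset (I → ℤ), (∀ x ∈ s, IsRoot cs h x) →
      ∏ x ∈ s, Nat.card ↥(X x ⊓ Subgroup.centralizer Q) ≡ 1 [MOD k] := by
    intro s
    induction s using Finset.induction_on with
    | empty => intro _; rw [Finset.prod_empty]
    | insert a s ha ih =>
      intro hs
      rw [Finset.prod_insert ha]
      have := (hk a (hs a (Finset.mem_insert_self a s))).mul (ih fun x hx => hs x (Finset.mem_insert_of_mem hx))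
      rwa [one_mul] at this
  exact h2 _ fun x hx => ((Set.Finite.mem_toFinset _).1 hx).1

section Chambers

variable [Finite Y] [Fact p.Prime]

/-- **The number of chambers fixed by `Q ⊆ T`.** -/
theorem card_fix_fam [Fintype W] (hG : GG cs h T X = ⊤) {Q : Set Y} (hQ : Q ⊆ T) :
    Nat.card {S : Sylow p Y // ∀ a ∈ Q, MulAut.conj a • S = S} =
      ∑ w : W, Nat.card ↥(Sup X (NW cs h w) ⊓ Subgroup.centralizer Q) := by
  classical
  obtain ⟨P, hP⟩ := exists_sylow_eq R hG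
  have hex : ∀ w : W, ∃ k, Rp cs R.nsys w k := fun w => exists_rp cs R.nsys w
  choose k hk using hex
  let f : (Σ w : W, ↥(Sup X (NW cs h w) ⊓ Subgroup.centralizer Q)) →
      {S : Sylow p Y // ∀ a ∈ Q, MulAut.conj a • S = S} := fun q =>
    ⟨(k q.1 * q.2)⁻¹ • P, fun a ha => by
      have h1 : MulAut.conj a (q.2 : Y) = q.2 := mem_cent_iff.1 q.2.2.2 a ha
      rw [act_cell R hG hP (diag_of_mem R (hQ ha)) (hk _), h1]⟩
  have hf : Function.Bijective f := by
    constructor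
    · rintro ⟨w, ⟨v, hv, hvf⟩⟩ ⟨w', ⟨v', hv', hvf'⟩⟩ e
      have e1 : (k w * v)⁻¹ • P = (k w' * v')⁻¹ • P := congrArg Subtype.val e
      obtain ⟨rfl, rfl⟩ := cell_inj R hG hP (hk w) (hk w') hv hv' e1
      rfl
    · rintro ⟨S, hS⟩
      obtain ⟨w, hw⟩ := exists_cell R hG hP S
      obtain ⟨v, hv, rfl⟩ := hw (k w) (hk w)
      exact ⟨⟨w, ⟨v, hv, mem_cent_iff.2 fun a ha => fix_cell R hG hP (diag_of_mem R (hQ ha)) (hk w) hv (hS a ha)⟩⟩, rfl⟩
  rw [← Nat.card_congr (Equiv.ofBijective f hf), Nat.card_sigma]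

theorem card_fix_fam_modEq [Finite W] (hG : GG cs h T X = ⊤) {Q : Set Y} (hQ : Q ⊆ T) {k : ℕ}
    (hk : ∀ x, IsRoot cs h x → Nat.card ↥(X x ⊓ Subgroup.centralizer Q) ≡ 1 [MOD k]) :
    Nat.card {S : Sylow p Y // ∀ a ∈ Q, MulAut.conj a • S = S} ≡ Nat.card W [MOD k] := by
  classical
  have := Fintype.ofFinite W
  rw [card_fix_fam R hG hQ]
  have h2 : ∀ s : Finset W, ∑ w ∈ s, Nat.card ↥(Sup X (NW cs h w) ⊓ Subgroup.centralizer Q) ≡
      s.card [MOD k] := by
    intro s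
    induction s using Finset.induction_on with
    | empty => rw [Finset.sum_empty, Finset.card_empty]
    | insert a s ha ih =>
      rw [Finset.sum_insert ha, Finset.card_insert_of_notMem ha, Nat.add_comm s.card 1]
      exact (card_fix_fam_NW_modEq R hQ hk a).add ih
  have := h2 Finset.univ
  rwa [Finset.card_univ, ← Nat.card_eq_fintype_card] at this

/-- **A chamber fixed by `Q` and by an element of prime order `b ∤ |W|` commuting with `Q`.** -/
theorem exists_fix_fam [Finite W] (hG : GG cs h T X = ⊤) {b : ℕ} (hb : b.Prime) {Q : Set Y} (hQ : Q ⊆ T) {s : Y}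
    (hs : s ^ b = 1) (hsQ : ∀ a ∈ Q, s * a = a * s)
    (hk : ∀ x, IsRoot cs h x → Nat.card ↥(X x ⊓ Subgroup.centralizer Q) ≡ 1 [MOD b])
    (hW : ¬ b ∣ Nat.card W) : ∃ S : Sylow p Y, (∀ a ∈ Q, MulAut.conj a • S = S) ∧ MulAut.conj s • S = S := by
  classical
  have h1 := card_fix_fam_modEq R hG hQ hk
  let C := {S : Sylow p Y // ∀ a ∈ Q, MulAut.conj a • S = S}
  have hst : ∀ a ∈ Q, MulAut.conj s * MulAut.conj a = MulAut.conj a * MulAut.conj s := fun a ha => by
    rw [← map_mul, ← map_mul, hsQ a ha]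
  let τ : Equiv.Perm C :=
    { toFun := fun S => ⟨MulAut.conj s • S.1, fun a ha => by rw [← mul_smul, ← hst a ha, mul_smul, S.2 a ha]⟩
      invFun := fun S => ⟨(MulAut.conj s)⁻¹ • S.1, fun a ha => by
        rw [← mul_smul, show MulAut.conj a * (MulAut.conj s)⁻¹ = (MulAut.conj s)⁻¹ * MulAut.conj a by
          rw [mul_inv_eq_iff_eq_mul, mul_assoc, ← hst a ha, inv_mul_cancel_left], mul_smul, S.2 a ha]⟩
      left_inv := fun S => Subtype.ext (inv_smul_smul _ S.1)
      right_inv := fun S => Subtype.ext (smul_inv_smul _ S.1) }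
  have hτ : ∀ (k : ℕ) (S : C), ((τ ^ k) S).1 = (MulAut.conj s ^ k) • S.1 := by
    intro k
    induction k with
    | zero => intro S; rw [pow_zero, pow_zero, one_smul]; rfl
    | succ k ih =>
      intro S
      rw [pow_succ, Equiv.Perm.mul_apply, ih, pow_succ, mul_smul]
      rfl
  have hτ1 : τ ^ b ^ 1 = 1 := by
    rw [pow_one]
    ext1 S
    apply Subtype.ext
    rw [hτ, ← map_pow, hs, map_one, one_smul]
    rfl
  have hf : Fact b.Prime := ⟨hb⟩
  have : Fintype C := Fintype.ofFinite C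
  obtain ⟨S, hS⟩ := Equiv.Perm.exists_fixed_point_of_prime (p := b) (n := 1) (α := C) (by
    rw [← Nat.card_eq_fintype_card]
    intro hd
    exact hW (Nat.modEq_zero_iff_dvd.1 (h1.symm.trans (Nat.modEq_zero_iff_dvd.2 hd)))) (σ := τ) hτ1
  exact ⟨S.1, S.2, congrArg Subtype.val hS⟩

/-- **Simultaneous conjugation into `T`.** -/
theorem exists_conj_fam [Finite W] (hG : GG cs h T X = ⊤) {b : ℕ} (hb : b.Prime) (hbp : b ≠ p) {Q : Subgroup Y}
    (hQ : Q ≤ T) {s : Y} (hs : s ^ b = 1) (hsQ : ∀ a ∈ Q, s * a = a * s)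
    (hk : ∀ x, IsRoot cs h x → Nat.card ↥(X x ⊓ Subgroup.centralizer (Q : Set Y)) ≡ 1 [MOD b])
    (hW : ¬ b ∣ Nat.card W) : ∃ g : Y, (∀ a ∈ Q, g * a * g⁻¹ ∈ T) ∧ g * s * g⁻¹ ∈ T := by
  have hpp : p.Prime := Fact.out
  obtain ⟨S, hS1, hS2⟩ := exists_fix_fam R hG hb (Q := (Q : Set Y)) hQ hs hsQ hk hW
  obtain ⟨P, hP⟩ := exists_sylow_eq R hG
  obtain ⟨g, hg⟩ := MulAction.exists_smul_eq Y P S
  -- the subgroup
  set E : Subgroup Y := Q ⊔ Subgroup.zpowers s with hE
  have hform : ∀ x ∈ E, ∃ a ∈ Q, ∃ j : ℤ, x = a * s ^ j := by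
    intro x hx
    have hN : Subgroup.zpowers s ≤ Subgroup.normalizer (Q : Set Y) := by
      rw [Subgroup.zpowers_le, Subgroup.mem_normalizer_iff]
      intro a
      constructor
      · intro ha
        have : s * a * s⁻¹ = a := by rw [hsQ a ha]; group
        rw [this]; exact ha
      · intro ha
        have h1 := hsQ _ ha
        have h2 : a = s * a * s⁻¹ := by
          have h3 : s * (s * a * s⁻¹) = s * a := by rw [h1]; group
          exact (mul_left_cancel h3).symm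
        rw [h2]; exact ha
    have h1 : x ∈ ((Q ⊔ Subgroup.zpowers s : Subgroup Y) : Set Y) := hx
    rw [Subgroup.coe_mul_of_right_le_normalizer_left _ _ hN, Set.mem_mul] at h1
    obtain ⟨a, ha, c, ⟨j, rfl⟩, rfl⟩ := h1
    exact ⟨a, ha, j, rfl⟩
  have hpowE : ∀ x ∈ E, x ^ (Nat.card Q * b) = 1 := by
    intro x hx
    obtain ⟨a, ha, j, rfl⟩ := hform x hx
    have hc : Commute a (s ^ j) := Commute.zpow_right (hsQ a ha).symm j
    rw [hc.mul_pow]
    have h1 : a ^ Nat.card Q = 1 := by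
      have := pow_card_eq_one' (x := (⟨a, ha⟩ : Q))
      exact congrArg Subtype.val this
    have h2 : (s ^ j) ^ b = 1 := by
      rw [← zpow_natCast, ← zpow_mul, mul_comm, zpow_mul, zpow_natCast, hs, one_zpow]
    rw [pow_mul, h1, one_pow, mul_comm (Nat.card Q), pow_mul, h2, one_pow, one_mul]
  have hcopm : (Nat.card Q * b).Coprime p := by
    refine Nat.Coprime.mul_left ?_ ((Nat.coprime_primes hb hpp).2 hbp)
    exact Nat.Coprime.coprime_dvd_left (Subgroup.card_dvd_of_le hQ) R.tcop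
  have hcop : (Nat.card E).Coprime p := by
    rw [Nat.coprime_comm, Nat.Prime.coprime_iff_not_dvd hpp]
    intro hd
    obtain ⟨x, hx⟩ := exists_prime_orderOf_dvd_card' p hd
    have h1 : (x : Y) ^ (Nat.card Q * b) = 1 := hpowE _ x.2
    have h2 := orderOf_dvd_of_pow_eq_one h1
    rw [Subgroup.orderOf_coe, hx] at h2
    exact (Nat.Prime.coprime_iff_not_dvd hpp).1 hcopm.symm h2
  -- the conjugate
  have hfix : ∀ x ∈ E, MulAut.conj x • S = S := by
    have h1 : E ≤ (MulAction.stabilizer Y S) := by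
      refine sup_le (fun a ha => ?_) (Subgroup.zpowers_le.2 ?_)
      · exact hS1 a ha
      · exact hS2
    exact fun x hx => h1 hx
  have hB : ∀ x ∈ E, g⁻¹ * x * g ∈ RGD.B cs h T X := by
    intro x hx
    rw [← smul_eq_iff_mem_B R hG hP, mul_smul, mul_smul, hg]
    have h1 : x • S = S := hfix x hx
    rw [h1, ← hg, inv_smul_smul]
  obtain ⟨g', hg'⟩ := exists_conj_sub (p := p) (U := RGD.Sup X (RGD.Pos cs h)) (T := T)
    (Q := E.map (MulAut.conj g⁻¹).toMonoidHom) R.T_le_normalizer_U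
    (Cfsg.Agent.H904.TorPQ.U_inf_T R) R.isPGroup_Upos (by
      rintro _ ⟨x, hx, rfl⟩
      have h1 := hB x hx
      obtain ⟨t, ht, u, hu, e⟩ := R.mem_B.1 h1
      refine ⟨t * u * t⁻¹, (Subgroup.mem_normalizer_iff.1 (R.T_le_normalizer_U ht) u).1 hu, t, ht, ?_⟩
      show g⁻¹ * x * g⁻¹⁻¹ = _
      rw [inv_inv, e]; group) (by
      have h1 : Nat.card ↥(E.map (MulAut.conj g⁻¹).toMonoidHom) = Nat.card E :=
        (Nat.card_congr (E.equivMapOfInjective _ (MulAut.conj g⁻¹).injective).toEquiv).symm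
      rw [h1]; exact hcop)
  have key : ∀ x ∈ E, (g' * g⁻¹) * x * (g' * g⁻¹)⁻¹ ∈ T := by
    intro x hx
    have h1 := hg' ((MulAut.conj g⁻¹).toMonoidHom x) ⟨x, hx, rfl⟩
    have h2 : g' * (MulAut.conj g⁻¹).toMonoidHom x * g'⁻¹ = (g' * g⁻¹) * x * (g' * g⁻¹)⁻¹ := by
      show g' * (g⁻¹ * x * g⁻¹⁻¹) * g'⁻¹ = _
      group
    rwa [h2] at h1
  exact ⟨g' * g⁻¹, fun a ha => key a (Subgroup.mem_sup_left ha),
    key s (Subgroup.mem_sup_right (Subgroup.mem_zpowers s))⟩

end Chambers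

end RG

section Chev

open Cfsg.Lie Cfsg.Agent.ChevalleyStructure Cfsg.Agent.ChevalleyStructure.Elts
  Cfsg.Agent.Nodes.RGDChev Cfsg.Agent.KFacts.RgdField Cfsg.Agent.KFacts.RgdChevCoord
  Cfsg.Agent.CpAut.RgdSub Cfsg.Agent.ChevStructure.FieldMap Cfsg.Agent.BpExc.TorAll

universe u

variable {D : ChevalleyDatum} {l : ℕ} {M : CoxeterMatrix (Fin l)} (hp : IsType D l M)
  (p : ℕ) [Fact p.Prime]

section Fin

variable {K : Type u} [Field K] [Finite K] [CharP K p] {W : Type*} [Group W] (cs : CoxeterSystem M W)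

include p in
/-- the centralizer of a subset of the torus on a root group -/
theorem card_cent_root {Q : Set ↥(D.group K)} (hQ : Q ⊆ TT D K) {a : Fin l → ℤ} (ha : IsRoot cs hp.isCartan a) {b : ℕ}
    (hb : Nat.card K ≡ 1 [MOD b]) : Nat.card ↥(XX D l K a ⊓ Subgroup.centralizer Q) ≡ 1 [MOD b] := by
  have C := coords (K := K) hp cs p
  have Ca := C.coord _ ha
  by_cases h1 : ∀ t ∈ Q, ch hp a t = 1
  · have h2 : Nat.card ↥(XX D l K a ⊓ Subgroup.centralizer Q) = Nat.card K := by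
      symm
      refine Nat.card_congr (Equiv.ofBijective (fun s : K => ⟨xc hp a s, ⟨(Ca.mem _).2 ⟨_, rfl⟩, ?_⟩⟩) ⟨?_, ?_⟩)
      · refine mem_cent_iff.2 fun t ht => ?_
        show t * xc hp a s * t⁻¹ = xc hp a s
        rw [Ca.act t (hQ ht), h1 t ht, one_mul]
      · intro s s' e
        exact Ca.inj (congrArg Subtype.val e)
      · rintro ⟨y, hy, hy'⟩
        obtain ⟨s, rfl⟩ := (Ca.mem y).1 hy
        exact ⟨s, rfl⟩
    rw [h2]
    exact hb
  · have h2 : XX D l K a ⊓ Subgroup.centralizer Q = ⊥ := by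
      rw [eq_bot_iff]
      rintro y ⟨hy, hy'⟩
      obtain ⟨s, rfl⟩ := (Ca.mem y).1 hy
      push Not at h1
      obtain ⟨t, ht, h1⟩ := h1
      have h3 : t * xc hp a s * t⁻¹ = xc hp a s := mem_cent_iff.1 hy' t ht
      rw [Ca.act t (hQ ht)] at h3
      have h4 := Ca.inj h3
      have h5 : s = 0 := by
        by_contra hs
        exact h1 (mul_right_cancel₀ hs (by rw [h4, one_mul]))
      rw [Subgroup.mem_bot, h5, Ca.zero]
    rw [h2, Subgroup.card_bot]

include hp in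
theorem exists_conj_fin {b : ℕ} (hb : b.Prime) (hbp : b ≠ p) (hK : Nat.card K ≡ 1 [MOD b])
    (hW : ¬ b ∣ Nat.card M.Group) {Q : Subgroup ↥(D.group K)} (hQ : Q ≤ TT D K) {s : ↥(D.group K)} (hs : s ^ b = 1)
    (hsQ : ∀ a ∈ Q, s * a = a * s) : ∃ g : ↥(D.group K), (∀ a ∈ Q, g * a * g⁻¹ ∈ TT D K) ∧ g * s * g⁻¹ ∈ TT D K := by
  have hWfin := finite_W hp (M.toCoxeterSystem)
  have R : RGD M.toCoxeterSystem hp.isCartan p (TT D K) (nc hp K) (XX D l K) := rgd (K := K) hp M.toCoxeterSystem p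
  have hG : GG M.toCoxeterSystem hp.isCartan (TT D K) (XX D l K) = ⊤ :=
    GG_eq_top (T := TT D K) (G1_eq_top (K := K) hp M.toCoxeterSystem)
  have h1 : ∀ a, IsRoot M.toCoxeterSystem hp.isCartan a →
      Nat.card ↥(XX D l K a ⊓ Subgroup.centralizer (Q : Set ↥(D.group K))) ≡ 1 [MOD b] := by
    intro a ha
    exact card_cent_root hp p M.toCoxeterSystem (Q := (Q : Set ↥(D.group K))) (SetLike.coe_subset_coe.2 hQ) ha hK
  exact exists_conj_fam R hG hb hbp hQ hs hsQ h1 hW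

end Fin

variable {k : Type u} [Field k] [IsAlgClosed k] [CharP k p]

include hp in
/-- **Simultaneous torality**: a finite subgroup `Q` of the torus and an element of prime order `b ∤ |W|` commuting with it
are simultaneously conjugate into the torus. -/
theorem exists_conj_TT_fam (hk : HAlg p k) {b : ℕ} (hb : b.Prime) (hbp : b ≠ p) (hW : ¬ b ∣ Nat.card M.Group)
    {Q : Subgroup ↥(D.group k)} [hQf : Finite Q] (hQ : Q ≤ TT D k) {y : ↥(D.group k)} (hy : y ^ b = 1)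
    (hyQ : ∀ a ∈ Q, y * a = a * y) :
    ∃ g : ↥(D.group k), (∀ a ∈ Q, g * a * g⁻¹ ∈ TT D k) ∧ g * y * g⁻¹ ∈ TT D k := by
  classical
  have hpp : p.Prime := Fact.out
  obtain ⟨m0, hm0, x0, hx0, hxx0⟩ := exists_level hp p hk y.2
  have hlev : ∀ a : Q, ∃ m, 0 < m ∧
      ((a : ↥(D.group k)) : GL D.Idx k) ∈ (D.diagonalSubgroup ↥(EE p m : Subfield k)).map (glm D (EE p m)) :=
    fun a => exists_diag_level hp p hk (hQ a.2)
  choose m1 hm1 h1 using hlev
  have hQfin : Fintype Q := Fintype.ofFinite Q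
  obtain ⟨N, hNdef⟩ : ∃ N, N = m0 * (∏ a : Q, m1 a) * b.totient := ⟨_, rfl⟩
  have hN : 0 < N := by
    rw [hNdef]
    exact Nat.mul_pos (Nat.mul_pos hm0 (Finset.prod_pos fun a _ => hm1 a)) (Nat.totient_pos.2 hb.pos)
  have h0N : m0 ∣ N := by rw [hNdef, mul_assoc]; exact dvd_mul_right _ _
  have h1N : ∀ a, m1 a ∣ N := fun a => by
    have h2 : m1 a ∣ ∏ a : Q, m1 a := Finset.dvd_prod_of_mem _ (Finset.mem_univ a)
    rw [hNdef]
    exact (h2.mul_left _).mul_right _
  obtain ⟨y', hy', hyy'⟩ := map_group_mono hp p h0N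
    (show (y : GL D.Idx k) ∈ (D.group ↥(EE p m0 : Subfield k)).map (glm D (EE p m0)) from ⟨x0, hx0, hxx0⟩)
  have hfinN : Finite ↥(EE p N : Subfield k) := finite_EE p hN
  have : CharP ↥(EE p N : Subfield k) p := charP_fixF p _
  have : Finite (GL D.Idx ↥(EE p N : Subfield k)) := inferInstance
  have hGfin : Finite ↥(D.group ↥(EE p N : Subfield k)) := inferInstance
  have hinj := glm_injective (D := D) (EE p N : Subfield k)
  -- the embedding
  obtain ⟨ι, hιd⟩ : ∃ ι : ↥(D.group ↥(EE p N : Subfield k)) →* ↥(D.group k),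
      ∀ g, ((ι g : ↥(D.group k)) : GL D.Idx k) = glm D (EE p N) (g : GL D.Idx ↥(EE p N : Subfield k)) :=
    ⟨{ toFun := fun g => ⟨glm D (EE p N) (g : GL D.Idx ↥(EE p N : Subfield k)), map_group_le hp p ⟨_, g.2, rfl⟩⟩
       map_one' := Subtype.ext (map_one _)
       map_mul' := fun a b => Subtype.ext (map_mul _ _ _) }, fun _ => rfl⟩
  have hι : Function.Injective ι := fun a b e => Subtype.ext (hinj (by rw [← hιd, ← hιd, e]))
  have hιT : ∀ t, t ∈ TT D ↥(EE p N : Subfield k) → ι t ∈ TT D k := fun t ht => by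
    rw [Subgroup.mem_subgroupOf, hιd]
    exact glm_diag hp (EE p N) ht
  have hlift : ∀ a ∈ Q, ∃ a' ∈ TT D ↥(EE p N : Subfield k), ι a' = a := by
    intro a ha
    obtain ⟨t', ht', htt'⟩ := map_diag_mono hp p (h1N ⟨a, ha⟩) (h1 ⟨a, ha⟩)
    have hmem : t' ∈ D.group ↥(EE p N : Subfield k) := by
      have h2 : ((a : ↥(D.group k)) : GL D.Idx k) ∈ (D.diagonalSubgroup ↥(EE p N : Subfield k)).map (glm D (EE p N)) :=
        map_diag_mono hp p (h1N ⟨a, ha⟩) (h1 ⟨a, ha⟩)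
      exact diagonal_le_group hp.inList _ ht'
    exact ⟨⟨t', hmem⟩, ht', Subtype.ext (by rw [hιd]; exact htt')⟩
  have hQT : Q.comap ι ≤ TT D ↥(EE p N : Subfield k) := by
    intro a ha
    obtain ⟨a', ha', e⟩ := hlift _ ha
    rw [← hι e]
    exact ha'
  have hyι : ι ⟨y', hy'⟩ = y := Subtype.ext (by rw [hιd]; exact hyy')
  have hcard : Nat.card ↥(EE p N : Subfield k) ≡ 1 [MOD b] := by
    rw [card_EE p hN, hNdef, mul_comm, pow_mul]
    have h1 := (Nat.ModEq.pow_totient ((Nat.coprime_primes hpp hb).2 (Ne.symm hbp))).pow (m0 * ∏ a : Q, m1 a)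
    rwa [one_pow] at h1
  have hs1 : (⟨y', hy'⟩ : ↥(D.group ↥(EE p N : Subfield k))) ^ b = 1 := by
    apply hι
    rw [map_pow, hyι, hy, map_one]
  have hs2 : ∀ a ∈ Q.comap ι, (⟨y', hy'⟩ : ↥(D.group ↥(EE p N : Subfield k))) * a = a * ⟨y', hy'⟩ := by
    intro a ha
    apply hι
    rw [map_mul, map_mul, hyι]
    exact hyQ _ ha
  obtain ⟨g, hg1, hg2⟩ := exists_conj_fin hp p hb hbp hcard hW hQT hs1 hs2
  refine ⟨ι g, fun a ha => ?_, ?_⟩
  · obtain ⟨a', ha', e⟩ := hlift a ha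
    rw [← e, ← map_mul, ← map_inv, ← map_mul]
    exact hιT _ (hg1 a' (by rw [Subgroup.mem_comap, e]; exact ha))
  · rw [← hyι, ← map_mul, ← map_inv, ← map_mul]
    exact hιT _ hg2

end Chev

end Cfsg.Agent.H234.TorFam
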