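import Cfsg.Agent.H630.ExcD
import Cfsg.Agent.H130.TorOrd
import Cfsg.Agent.H234.TorFam
import Cfsg.Agent.H234.CycMult

/-!
# `Cond` and multiplicities of cyclotomic polynomials (helper234)

* `exists_rp_fam` : an element conjugating several elements of the torus into the torus: one element of `N` does the same;
* `card_dvd_charpoly` : a subgroup of `X` conjugate in `Y` into the torus has order dividing `det (θ - q)` for some
  `θ = w g`;
* `Setup.not_cond_mult` : `Cond {r, s}` fails if `a φ(n) + φ(m) > l`, `n ≠ m` the orders of `q` modulo `r` and `s`, `a` the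
  multiplicity of `Φ_n` for some element of `W g`.
-/

set_option autoImplicit false
set_option linter.unusedSectionVars false

namespace Cfsg.Agent.H234.NotCond

open CoxeterSystem Cfsg Cfsg.Lie Cfsg.Lie.ChevalleyDatum
open Cfsg.Agent.ChevalleyStructure Cfsg.Agent.ChevalleyStructure.Elts Cfsg.Agent.ChevalleyStructure.CoxeterGeom
  Cfsg.Agent.ChevalleyStructure.CoxeterGeomTypes Cfsg.Agent.ChevalleyStructure.NPerm
open Cfsg.Agent.Tits.Roots Cfsg.Agent.Tits.Core Cfsg.Agent.Nodes Cfsg.Agent.Nodes.Reps Cfsg.Agent.Nodes.BNOf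
  Cfsg.Agent.Nodes.RGDChev Cfsg.Agent.Nodes.Bruhat Cfsg.Agent.Nodes.SubComb Cfsg.Agent.Nodes.Coroot
open Cfsg.Agent.KFacts.RgdField Cfsg.Agent.KFacts.RgdChevCoord Cfsg.Agent.BpExc.TorCent Cfsg.Agent.BpExc.TorChev
open Cfsg.Agent.GpExc.Field Cfsg.Agent.BpExc.Tow Cfsg.Agent.BpExc.TowChev Cfsg.Agent.BpExc.Fr
  Cfsg.Agent.BpExc.LangFr Cfsg.Agent.LangThm Cfsg.Agent.BpExc Cfsg.Agent.H129.TorusChar Cfsg.Agent.H129.TorusMain
open Cfsg.Agent.H129.TorAct (cX_tau tau_mem exists_theta)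
open Cfsg.Agent.H630.NH Cfsg.Agent.H630.Exc

universe u v

variable {D : ChevalleyDatum} {l : ℕ} {M : CoxeterMatrix (Fin l)} (hp : IsType D l M) {k : Type u} [Field k]
  {W : Type*} [Group W] (cs : CoxeterSystem M W)

/-- **Simultaneous conjugation in `N`.** -/
theorem exists_rp_fam [Finite W] (hk : LocFin k) (p : ℕ) [Fact p.Prime] [CharP k p]
    (hN : NSys M (TT D k) (nc hp k)) (c : ↥(D.group k)) :
    ∃ (w : W) (n : ↥(D.group k)), Rp cs hN w n ∧
      ∀ s ∈ TT D k, ∀ t ∈ TT D k, c * s = t * c → n * s = t * n := by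
  have H := tow hp cs hk p
  have hcG : c ∈ GG cs hp.isCartan (TL (Tj hp (k := k))) (XL (Xj hp)) := by
    rw [GG_eq_top hp cs hk]; exact Subgroup.mem_top c
  obtain ⟨w, u, hu, n, hn, v, hv, rfl⟩ := H.exists_normal_form hcG
  refine ⟨w, n, H378.Regular.rp_congr cs (TL_eq hp hk) hn, fun s hs t ht e => ?_⟩
  rw [← TL_eq hp hk] at hs ht
  have h1 := H.T_le_normalizer (S := RGD.Pos cs hp.isCartan) (fun x hx => hx.1) ht
  have h2 := H.T_le_normalizer (S := NormalForm.NW cs hp.isCartan w) (fun x hx => hx.1) hs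
  have h3 : Rp cs H.nsys w (t * (n * s⁻¹)) := by
    have h3 := (rp_of_mem (cs := cs) (hN := H.nsys) ht).mul (hn.mul_mem_right (inv_mem hs))
    rwa [one_mul] at h3
  have h4 : t * u * t⁻¹ * (t * (n * s⁻¹)) * (s * v * s⁻¹) = u * n * v := by
    have e1 : t * u * t⁻¹ * (t * (n * s⁻¹)) * (s * v * s⁻¹) = t * (u * n * v) * s⁻¹ := by group
    rw [e1, ← e]; group
  obtain ⟨-, -, h5, -⟩ := H.normal_form_unique ((Subgroup.mem_normalizer_iff.1 h1 u).1 hu) hu h3 hn
    ((Subgroup.mem_normalizer_iff.1 h2 v).1 hv) hv h4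
  calc n * s = t * (n * s⁻¹) * s := by rw [h5]
    _ = t * n := by group

variable {p e : ℕ} [Fact p.Prime] [CharP k p] {σ : MulAut ↥(D.group k)} {g : (Fin l → ℤ) ≃+ (Fin l → ℤ)}
  {X : Type v} [Group X] {e0 : X →* ↥(D.group k)} {d : ℕ} (S : Setup hp cs p e σ g e0 d)

include S

/-- **One `θ` for a subgroup.** -/
theorem exists_theta_fam [IsAlgClosed k] [Finite W] (z : ↥(D.group k)) :
    ∃ w : W, ∀ x ∈ tX D k e0 z, ∀ y,
      cX hp (z⁻¹ * e0 x * z) (theta hp cs w g y) = cX hp (z⁻¹ * e0 x * z) y ^ p ^ e := by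
  have hN := S.nsys hp cs
  obtain ⟨w, n, hn, hc⟩ := exists_rp_fam hp cs S.lf p hN (z⁻¹ * σ z)
  refine ⟨w, fun x hx => ?_⟩
  have ht : z⁻¹ * e0 x * z ∈ TT D k := hx
  have h1 : σ (z⁻¹ * e0 x * z) = (σ z)⁻¹ * e0 x * σ z := by rw [map_mul, map_mul, map_inv, S.fix]
  have h2 := hc _ ((S.fr.tor _).2 ht) _ ht (by rw [h1]; group)
  refine (tau_iff hp cs S.lf S.frob S.fr hn ht).1 ?_
  rw [h2]
  group

/-- the characters of `X ∩ z T z⁻¹` -/
theorem exists_hom {w : W} {z : ↥(D.group k)} {ε : ℤ} {Q : ℤ} (hQ : Q = ε * (p ^ e : ℕ))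
    (hw : ∀ x ∈ tX D k e0 z, ∀ y,
      cX hp (z⁻¹ * e0 x * z) (theta hp cs w g y) = cX hp (z⁻¹ * e0 x * z) y ^ p ^ e) :
    ∃ f : ↥(tX D k e0 z) →* ↥(H378.TorDual.KerOf k (ε • thE hp cs w g - Q • (1 : Module.End ℤ (Fin l → ℤ)))),
      Function.Injective f := by
  let f0 : ↥(tX D k e0 z) →* ↥(TT D k) :=
    { toFun := fun x => ⟨z⁻¹ * e0 x * z, x.2⟩
      map_one' := Subtype.ext (by
        show z⁻¹ * e0 1 * z = 1
        rw [map_one, mul_one, inv_mul_cancel])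
      map_mul' := fun a b => Subtype.ext (by
        show z⁻¹ * e0 (a * b) * z = (z⁻¹ * e0 a * z) * (z⁻¹ * e0 b * z)
        rw [map_mul]; group) }
  have hf0 : Function.Injective f0 := by
    intro a b hab
    have h1 : z⁻¹ * e0 a * z = z⁻¹ * e0 b * z := congrArg Subtype.val hab
    apply Subtype.ext
    apply S.inj
    exact mul_left_cancel (mul_right_cancel h1)
  let f1 : ↥(tX D k e0 z) →* H378.TorDual.Ch l k := (H378.TorChar.tchar hp).comp f0
  have hf1 : Function.Injective f1 := (H378.TorChar.tchar_injective hp).comp hf0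
  have hmem : ∀ x, f1 x ∈ H378.TorDual.KerOf k (ε • thE hp cs w g - Q • (1 : Module.End ℤ (Fin l → ℤ))) := by
    intro x
    have hmc := isMC_cX hp x.2
    rw [H378.TorDual.mem_kerOf]
    intro y
    apply Units.ext
    have h1 : ∀ y, ((f1 x (Multiplicative.ofAdd y) : kˣ) : k) = cX hp (z⁻¹ * e0 x * z) y :=
      H378.RegTw.tchar_eq_cX hp x.2
    rw [h1, Units.val_one]
    have e1 : (ε • thE hp cs w g - Q • (1 : Module.End ℤ (Fin l → ℤ))) y = ε • theta hp cs w g y + (-Q) • y := by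
      rw [LinearMap.sub_apply, LinearMap.smul_apply, LinearMap.smul_apply, Module.End.one_apply, thE_apply, neg_smul,
        sub_eq_add_neg]
    rw [e1, hmc.add, hmc.zsmul, hmc.zsmul, hw x x.2, hQ, zpow_neg, mul_comm ε, zpow_mul, zpow_natCast,
      mul_inv_cancel₀ (zpow_ne_zero _ (pow_ne_zero _ (hmc.ne_zero y)))]
  exact ⟨f1.codRestrict _ hmem, fun a b hab => hf1 (congrArg Subtype.val hab)⟩

/-- the determinant is prime to `p` -/
theorem det_ne_zero [Finite W] (w : W) {ε : ℤ} (hε : ε = 1 ∨ ε = -1) {Q : ℤ} (hQ : Q = ε * (p ^ e : ℕ)) :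
    ((LinearMap.det (ε • thE hp cs w g - Q • (1 : Module.End ℤ (Fin l → ℤ))) : ℤ) : k) ≠ 0 := by
  have hpp : p.Prime := Fact.out
  obtain ⟨N, hN0, hN⟩ := S.exists_thE_pow hp cs w
  have hN2 : (ε • thE hp cs w g) ^ (2 * N) = 1 := by
    rw [_root_.smul_pow, eps_pow_two hε, one_smul, mul_comm, pow_mul, hN, one_pow]
  set F := ε • thE hp cs w g with hF
  have h1 : LinearMap.det (F - Q • (1 : Module.End ℤ (Fin l → ℤ))) = (-1) ^ l * F.charpoly.eval Q := by
    rw [LinearMap.eval_charpoly]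
    have h2 : F - Q • (1 : Module.End ℤ (Fin l → ℤ)) = (-1 : ℤ) • (algebraMap ℤ (Module.End ℤ (Fin l → ℤ)) Q - F) := by
      rw [Algebra.algebraMap_eq_smul_one, neg_one_smul]; abel
    rw [h2, LinearMap.det_smul, Module.finrank_fin_fun]
  have h3 : (p : ℤ) ∣ F.charpoly.eval Q - F.charpoly.eval 0 := by
    refine dvd_trans ?_ (Polynomial.sub_dvd_eval_sub Q 0 F.charpoly)
    rw [sub_zero, hQ]
    refine Dvd.dvd.mul_left ?_ _
    push_cast
    exact dvd_pow_self _ S.pos.ne'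
  have h4 : F.charpoly.eval 0 = (-1) ^ l * LinearMap.det F := by
    rw [LinearMap.eval_charpoly]
    have h2 : algebraMap ℤ (Module.End ℤ (Fin l → ℤ)) 0 - F = (-1 : ℤ) • F := by
      rw [map_zero, zero_sub, neg_one_smul]
    rw [h2, LinearMap.det_smul, Module.finrank_fin_fun]
  have h5 : LinearMap.det F ^ (2 * N) = 1 := by
    rw [← map_pow, hN2, map_one]
  have h6 : ¬ (p : ℤ) ∣ F.charpoly.eval 0 := by
    rw [h4]
    intro h
    have hpZ := Nat.prime_iff_prime_int.1 hpp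
    rcases hpZ.dvd_mul.1 h with h | h
    · have h7 := hpZ.dvd_of_dvd_pow h
      rw [dvd_neg] at h7
      exact hpp.one_lt.ne' (Nat.dvd_one.1 (by exact_mod_cast h7))
    · have h7 : (p : ℤ) ∣ LinearMap.det F ^ (2 * N) := Dvd.dvd.pow h (by omega)
      rw [h5] at h7
      exact hpp.one_lt.ne' (Nat.dvd_one.1 (by exact_mod_cast h7))
  intro h0
  rw [h1, CharP.intCast_eq_zero_iff k p] at h0
  have hpZ := Nat.prime_iff_prime_int.1 hpp
  rcases hpZ.dvd_mul.1 h0 with h | h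
  · have h7 := hpZ.dvd_of_dvd_pow h
    rw [dvd_neg] at h7
    exact hpp.one_lt.ne' (Nat.dvd_one.1 (by exact_mod_cast h7))
  · apply h6
    have := dvd_sub h h3
    rwa [sub_sub_cancel] at this

/-- **The order of `X ∩ z T z⁻¹` divides the value of a characteristic polynomial.** -/
theorem card_dvd_charpoly [Finite W] (z : ↥(D.group k)) [IsAlgClosed k] {ε : ℤ} (hε : ε = 1 ∨ ε = -1) {Q : ℤ}
    (hQ : Q = ε * (p ^ e : ℕ)) :
    ∃ w : W, (Nat.card (tX D k e0 z) : ℤ) ∣ (ε • thE hp cs w g).charpoly.eval Q := by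
  obtain ⟨w, hw⟩ := exists_theta_fam hp cs S z
  obtain ⟨f, hf⟩ := exists_hom hp cs S hQ hw
  refine ⟨w, ?_⟩
  have hdet := det_ne_zero hp cs S w hε hQ
  have h1 := Subgroup.card_dvd_of_injective f hf
  rw [H378.TorDual.card_kerOf k hdet] at h1
  have h2 : LinearMap.det (ε • thE hp cs w g - Q • (1 : Module.End ℤ (Fin l → ℤ))) =
      (-1) ^ l * (ε • thE hp cs w g).charpoly.eval Q := by
    rw [LinearMap.eval_charpoly]
    have h2 : ε • thE hp cs w g - Q • (1 : Module.End ℤ (Fin l → ℤ)) =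
        (-1 : ℤ) • (algebraMap ℤ (Module.End ℤ (Fin l → ℤ)) Q - ε • thE hp cs w g) := by
      rw [Algebra.algebraMap_eq_smul_one, neg_one_smul]; abel
    rw [h2, LinearMap.det_smul, Module.finrank_fin_fun]
  rw [h2, Int.natAbs_mul, Int.natAbs_pow, Int.natAbs_neg, Int.natAbs_one, one_pow, one_mul] at h1
  exact Int.natCast_dvd.2 h1

open Polynomial in
/-- **`Cond` fails if `a φ(n) + φ(m) > l`.** -/
theorem Setup.not_cond_mult [IsAlgClosed k] [Finite W] [Finite X] (hka : BpExc.TorAll.HAlg p k) {π : Set ℕ} {r s : ℕ}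
    (hrp : r.Prime) (hsp : s.Prime) (hr : r ∈ π) (hs : s ∈ π) (hrs : r ≠ s) (hrc : r ≠ p) (hsc : s ≠ p)
    (hrd : ¬ r ∣ d) (hr2 : r ≠ 2) (hsX : s ∣ Nat.card X) {ε : ℤ} (hε : ε = 1 ∨ ε = -1) {w1 : W}
    (hT : HasTor hp cs g ε w1) {Q : ℤ} (hQ : Q = ε * (p ^ e : ℕ)) {n : ℕ} (hn : orderOf (Q : ZMod r) = n)
    (hw : rep cs hp.isCartan w1 ^ n = 1) {a : ℕ} (x : Fin a → Fin l → ℤ) (y : Fin a → ((Fin l → ℤ) →ₗ[ℤ] ℤ)) (c : ℤ)
    (hc : ¬ (r : ℤ) ∣ c) (hx : ∀ i, aeval (rep cs hp.isCartan w1) (cyclotomic n ℤ) (x i) = 0)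
    (hy : ∀ i i', ∀ j < (cyclotomic n ℤ).natDegree, y i ((rep cs hp.isCartan w1 ^ j) (x i')) =
      if i = i' ∧ j + 1 = (cyclotomic n ℤ).natDegree then c else 0)
    (hls : l + 1 < s) (hlr : l < n.totient * (r - 1)) (hne : n ≠ orderOf (Q : ZMod s))
    (hbig : l < a * n.totient + (orderOf (Q : ZMod s)).totient) : ¬ Cond π X := by
  intro hcond
  have : Fact r.Prime := ⟨hrp⟩
  have : Fact s.Prime := ⟨hsp⟩
  have hpp : p.Prime := Fact.out
  have hQr : ∀ {r : ℕ}, r.Prime → r ≠ p → ¬ (r : ℤ) ∣ Q := by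
    intro r hr h1 h2
    apply h1
    have h3 : r ∣ Q.natAbs := Int.natCast_dvd.1 h2
    have h4 : Q.natAbs = p ^ e := by
      rw [hQ, Int.natAbs_mul]
      rcases hε with rfl | rfl <;> simp
    rw [h4] at h3
    exact (Nat.prime_dvd_prime_iff_eq hr hpp).1 (hr.dvd_of_dvd_pow h3)
  have hn0 : 0 < n := by rw [← hn]; exact ord_pos hrp (hQr hrp hrc)
  have hQ1 : 1 < Q.natAbs := by
    have h4 : Q.natAbs = p ^ e := by
      rw [hQ, Int.natAbs_mul]
      rcases hε with rfl | rfl <;> simp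
    rw [h4]
    exact Nat.one_lt_pow S.pos.ne' hpp.one_lt
  -- the torus
  obtain ⟨w, hw'⟩ := hT
  have hNs := S.nsys hp cs
  obtain ⟨n', hn'⟩ := exists_rp cs hNs w
  obtain ⟨z, hz⟩ := lang_all hp cs S.pos S.frob S.fr 1 n'
  rw [map_one, one_mul] at hz
  obtain ⟨v, b, hv, hb⟩ := exists_part hrp (cyclotomic_eval_ne_zero hn0 hQ1)
  have hv0 : 0 < v := by
    rcases Nat.eq_zero_or_pos v with h0 | h0
    · exfalso
      have h1 := dvd_cyclotomic hrp (hQr hrp hrc)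
      rw [hn, hv, h0, pow_zero, Nat.cast_one, one_mul] at h1
      exact hb h1
    · exact h0
  have hdiv := S.pow_dvd_card_tX hp cs hε hw' hn' hz hrp hrc hrd hr2 hQ hn hw x y c hc hx hy (v := v) ⟨b, hv⟩
  -- the Sylow subgroup of the torus
  obtain ⟨P⟩ : Nonempty (Sylow r (tX D k e0 z)) := inferInstance
  obtain ⟨A, hA⟩ : ∃ A, A = ((P : Subgroup (tX D k e0 z)).map (tX D k e0 z).subtype : Subgroup X) := ⟨_, rfl⟩
  have hAP : IsPGroup r A := by rw [hA]; exact P.isPGroup'.map _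
  have hAT : A ≤ tX D k e0 z := by
    rw [hA]
    rintro _ ⟨a, -, rfl⟩
    exact a.2
  have hAc : (r ^ v) ^ a ∣ Nat.card A := by
    have h1 : Nat.card A = Nat.card P := by
      rw [hA]
      exact (Nat.card_congr ((P : Subgroup (tX D k e0 z)).equivMapOfInjective _ (Subtype.val_injective)).toEquiv).symm
    rw [h1, ← pow_mul]
    rw [← pow_mul] at hdiv
    exact P.pow_dvd_card_of_pow_dvd_card hdiv
  -- the element of order `s`
  obtain ⟨y0, hy0⟩ := exists_prime_orderOf_dvd_card' s hsX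
  obtain ⟨h, hh⟩ := exists_conj_le r A hAP _ (hcond s hs r hr (Ne.symm hrs) y0 ⟨1, by rw [hy0, pow_one]⟩)
  obtain ⟨y', hy'⟩ : ∃ y', y' = h⁻¹ * y0 * h := ⟨_, rfl⟩
  have hyc : ∀ a ∈ A, a * y' = y' * a := by
    intro a ha
    have h2 := hh a ha
    rw [Subgroup.mem_centralizer_singleton_iff] at h2
    have h3 : a * (h⁻¹ * y0 * h) = h⁻¹ * (h * a * h⁻¹ * y0) * h := by group
    rw [hy', h3, h2]
    group
  have hys : orderOf y' = s := by
    rw [← hy0]
    have := orderOf_injective (MulAut.conj h⁻¹).toMonoidHom (MulAut.conj h⁻¹).injective y0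
    rw [hy']
    simpa using this
  -- simultaneous torality
  let f : X →* ↥(D.group k) := ((MulAut.conj z⁻¹).toMonoidHom).comp e0
  have hf : ∀ x, f x = z⁻¹ * e0 x * z := fun x => by
    show z⁻¹ * e0 x * z⁻¹⁻¹ = _
    rw [inv_inv]
  have hWs : ¬ s ∣ Nat.card M.Group := by
    have hWfin := finite_W hp (M.toCoxeterSystem)
    intro h
    have := H378.LatCodim.le_of_dvd_card M.toCoxeterSystem hp.isCartan hsp h
    omega
  have hfin : Finite ↥(A.map f) := ((Set.toFinite (A : Set X)).image f).to_subtype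
  obtain ⟨g0, hg1, hg2⟩ := TorFam.exists_conj_TT_fam hp p hka hsp hsc hWs (Q := A.map f) (by
      rintro _ ⟨a, ha, rfl⟩
      rw [hf]
      exact hAT ha) (y := f y') (by rw [← map_pow, ← hys, pow_orderOf_eq_one, map_one]) (by
      rintro _ ⟨a, ha, rfl⟩
      rw [← map_mul, ← map_mul, hyc a ha])
  obtain ⟨z2, hz2⟩ : ∃ z2, z2 = z * g0⁻¹ := ⟨_, rfl⟩
  have hconj : ∀ x : X, z2⁻¹ * e0 x * z2 = g0 * f x * g0⁻¹ := by
    intro x
    rw [hf, hz2]; group
  have hB : A ⊔ Subgroup.zpowers y' ≤ tX D k e0 z2 := by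
    refine sup_le (fun a ha => ?_) (Subgroup.zpowers_le.2 ?_)
    · rw [mem_tX, hconj]
      exact hg1 _ ⟨a, ha, rfl⟩
    · rw [mem_tX, hconj]
      exact hg2
  have hcA : (r ^ v) ^ a ∣ Nat.card (tX D k e0 z2) := hAc.trans (Subgroup.card_dvd_of_le (le_sup_left.trans hB))
  have hcs : s ∣ Nat.card (tX D k e0 z2) := by
    have h1 : Nat.card (Subgroup.zpowers y') = s := by rw [Nat.card_zpowers, hys]
    rw [← h1]
    exact Subgroup.card_dvd_of_le (le_sup_right.trans hB)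
  obtain ⟨w2, hw2⟩ := card_dvd_charpoly hp cs S z2 hε hQ
  obtain ⟨N, hN0, hN⟩ := S.exists_thE_pow hp cs w2
  have hN2 : (ε • thE hp cs w2 g) ^ (2 * N) = 1 := by
    rw [_root_.smul_pow, eps_pow_two hε, one_smul, mul_comm, pow_mul, hN, one_pow]
  have hfr : Module.finrank ℤ (Fin l → ℤ) = l := Module.finrank_fin_fun ℤ
  have key := CycMult.mul_totient_add_le (ε • thE hp cs w2 g) (N := 2 * N) (by omega) hN2 (r := r) (s := s) hrp hsp
    (q := Q) (by rw [hfr, hn]; exact hlr) (by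
      rw [hfr]
      have h1 := Nat.totient_pos.2 (ord_pos hsp (hQr hsp hsc))
      calc l < 1 * (s - 1) := by omega
        _ ≤ _ := Nat.mul_le_mul_right _ h1) hv0 (b := b) (a := a) (by rw [hn]; exact hv) hb
    ((Int.natCast_dvd_natCast.2 hcA).trans hw2) ((Int.natCast_dvd_natCast.2 hcs).trans hw2) (by rw [hn]; exact hne)
  rw [hn, hfr] at key
  omega

end Cfsg.Agent.H234.NotCond
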