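import Mathlib
import Cfsg.Agent.H950.MCBase
import Cfsg.Agent.H876.SingMax
import Cfsg.Agent.H876.NondegMax
import Cfsg.Agent.H876.FrameSmall

/-!
# At least five classes of maximal subgroups in `PSU_n(q)`, `n ≥ 5` (helper234, for S5906, S5907)

Subspace stabilisers are maximal (`H876.sing_maximal`, `H876.nondeg_maximal`), and so is the stabiliser of an orthonormal
frame for `n = 5` (`H876.FrameMax.frame_maximal_all`).  Here: they are pairwise not conjugate.
-/

set_option autoImplicit false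
set_option linter.unusedSectionVars false

namespace Cfsg.Agent.H234.SepPSU

open Cfsg Cfsg.Geo Cfsg.Agent.H940.MaxCls Cfsg.Agent.H918 Cfsg.Agent.H950.MC Cfsg.Agent.H876
open Cfsg.Agent.LieClassical.HermBasic Cfsg.Agent.ClassicalGeometry.UnitTransv
open Cfsg.Agent.ClassicalGeometry.HermOrtho
open scoped Matrix MatrixGroups

section pre

variable {F : Type*} [Field F] {n : ℕ}

/-- the preimage of a subspace -/
def pre (g : GL (Fin n) F) (W : Submodule F (Fin n → F)) : Submodule F (Fin n → F) :=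
  W.comap (Matrix.toLin' (g : Matrix (Fin n) (Fin n) F))

theorem mem_pre {g : GL (Fin n) F} {W : Submodule F (Fin n → F)} {v : Fin n → F} :
    v ∈ pre g W ↔ (g : Matrix (Fin n) (Fin n) F) *ᵥ v ∈ W := by
  rw [pre, Submodule.mem_comap, Matrix.toLin'_apply]

theorem gl_mul_inv (g : GL (Fin n) F) (w : Fin n → F) :
    (g : Matrix (Fin n) (Fin n) F) *ᵥ (((g⁻¹ : GL (Fin n) F) : Matrix (Fin n) (Fin n) F) *ᵥ w) = w := by
  rw [Matrix.mulVec_mulVec, ← Units.val_mul, mul_inv_cancel, Units.val_one, Matrix.one_mulVec]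

theorem gl_inj (g : GL (Fin n) F) {x y : Fin n → F}
    (h : (g : Matrix (Fin n) (Fin n) F) *ᵥ x = (g : Matrix (Fin n) (Fin n) F) *ᵥ y) : x = y := by
  have h1 := congrArg (fun z => ((g⁻¹ : GL (Fin n) F) : Matrix (Fin n) (Fin n) F) *ᵥ z) h
  simp only [Matrix.mulVec_mulVec, ← Units.val_mul, inv_mul_cancel, Units.val_one, Matrix.one_mulVec] at h1
  exact h1

theorem finrank_pre (g : GL (Fin n) F) (W : Submodule F (Fin n → F)) :
    Module.finrank F (pre g W) = Module.finrank F W := by
  have h : (pre g W).map (Matrix.toLin' (g : Matrix (Fin n) (Fin n) F)) = W := by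
    apply le_antisymm
    · rintro _ ⟨x, hx, rfl⟩
      exact hx
    · intro w hw
      refine ⟨((g⁻¹ : GL (Fin n) F) : Matrix (Fin n) (Fin n) F) *ᵥ w, ?_, ?_⟩
      · rw [SetLike.mem_coe, mem_pre, gl_mul_inv]
        exact hw
      · rw [Matrix.toLin'_apply, gl_mul_inv]
  have h2 := (Submodule.equivMapOfInjective (Matrix.toLin' (g : Matrix (Fin n) (Fin n) F))
    (fun x y hxy => gl_inj g hxy) (pre g W)).finrank_eq
  rw [h] at h2
  exact h2

theorem stab_pre {g x : GL (Fin n) F} {W : Submodule F (Fin n → F)} (h : g * x * g⁻¹ ∈ subspaceStabilizer W) :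
    ∀ w ∈ pre g W, (x : Matrix (Fin n) (Fin n) F) *ᵥ w ∈ pre g W := by
  intro w hw
  rw [mem_pre] at hw ⊢
  have h1 := (mem_stab_iff.1 h _).1 hw
  rw [Matrix.mulVec_mulVec, ← Units.val_mul, inv_mul_cancel_right] at h1
  rwa [Matrix.mulVec_mulVec, ← Units.val_mul]

/-- `V` is invariant under `B` -/
def Inv (B : Subgroup (GL (Fin n) F)) (V : Submodule F (Fin n → F)) : Prop :=
  ∀ x ∈ B, ∀ v ∈ V, (x : Matrix (Fin n) (Fin n) F) *ᵥ v ∈ V

/-- the criterion -/
theorem apart_of {S B : Subgroup (GL (Fin n) F)} {W : Submodule F (Fin n → F)}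
    (hA : IsMaximalIn S (subspaceStabilizer W ⊓ S)) (h : ∀ g ∈ S, ¬ Inv B (pre g W)) :
    ApartIn S (subspaceStabilizer W ⊓ S) B := by
  refine apartIn_of_max hA fun g hg => ?_
  by_contra hcon
  push Not at hcon
  exact h g hg fun x hx => stab_pre (hcon x hx).1

end pre

section herm

variable {F : Type*} [Field F] [Fintype F] {n q : ℕ} (hF : Fintype.card F = q ^ 2)
include hF

omit [Fintype F] hF in
theorem sing_pre {g : GL (Fin n) F} (hg : g ∈ GU n F q) {W : Submodule F (Fin n → F)}
    (hW : IsTotallySingularFor (hermForm n F q) W) : IsTotallySingularFor (hermForm n F q) (pre g W) := by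
  intro u hu v hv
  rw [mem_pre] at hu hv
  rw [← herm_gl hg]
  exact hW _ hu _ hv

omit [Fintype F] hF in
theorem nd_pre {g : GL (Fin n) F} (hg : g ∈ GU n F q) {W : Submodule F (Fin n → F)}
    (hW : Nd q W) : Nd q (pre g W) := by
  intro u hu h
  rw [mem_pre] at hu
  have h1 : (g : Matrix (Fin n) (Fin n) F) *ᵥ u = 0 := by
    refine hW _ hu fun v hv => ?_
    have h2 := h (((g⁻¹ : GL (Fin n) F) : Matrix (Fin n) (Fin n) F) *ᵥ v) (by rw [mem_pre, gl_mul_inv]; exact hv)
    rwa [← herm_gl hg, gl_mul_inv] at h2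
  exact gl_inj g (by rw [h1, Matrix.mulVec_zero])

/-- a transvection group preserving `V` -/
theorem mem_or_perp {B : Subgroup (GL (Fin n) F)} {V : Submodule F (Fin n → F)} (hV : Inv B V) {x : Fin n → F}
    (hx : hermForm n F q x x = 0) (hB : ∀ (c : F) (hc : c + c ^ q = 0), uGL hF x c hx hc ∈ B) :
    x ∈ V ∨ ∀ v ∈ V, hermForm n F q v x = 0 := by
  by_contra hcon
  push Not at hcon
  obtain ⟨h1, v, hv, hvx⟩ := hcon
  obtain ⟨c, hc0, hc⟩ := exists_trace_zero_ne hF
  have h2 := hV _ (hB c hc) v hv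
  rw [uGL_mulVec] at h2
  exact h1 ((Submodule.smul_mem_iff V (mul_ne_zero hc0 hvx)).1 ((Submodule.add_mem_iff_right V hv).1 h2))

theorem uGL_stab_perp {W : Submodule F (Fin n → F)} {x : Fin n → F} (hx : hermForm n F q x x = 0)
    (h : ∀ w ∈ W, hermForm n F q w x = 0) (c : F) (hc : c + c ^ q = 0) :
    uGL hF x c hx hc ∈ subspaceStabilizer W ⊓ SUg n F q := by
  refine ⟨mem_stab_of_le fun w hw => ?_, uGL_mem hF hx hc⟩
  rw [uGL_mulVec, h w hw, mul_zero, zero_smul, add_zero]
  exact hw

theorem uGL_stab_mem {W : Submodule F (Fin n → F)} {x : Fin n → F} (hx : hermForm n F q x x = 0)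
    (h : x ∈ W) (c : F) (hc : c + c ^ q = 0) :
    uGL hF x c hx hc ∈ subspaceStabilizer W ⊓ SUg n F q := by
  refine ⟨mem_stab_of_le fun w hw => ?_, uGL_mem hF hx hc⟩
  rw [uGL_mulVec]
  exact W.add_mem hw (W.smul_mem _ h)

/-- a vector orthogonal to `W` and not to `v` -/
theorem exists_perp_ne {W : Submodule F (Fin n → F)} {v : Fin n → F} (hv : v ∉ W) :
    ∃ y, (∀ w ∈ W, hermForm n F q w y = 0) ∧ hermForm n F q v y ≠ 0 := by
  obtain ⟨ℓ, hℓ, hℓW⟩ := Submodule.exists_le_ker_of_notMem hv
  refine ⟨fun i => (ℓ (Pi.single i 1)) ^ q, ?_⟩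
  have hx0 : ∀ x, hermForm n F q x (fun i => (ℓ (Pi.single i 1)) ^ q) = ℓ x := by
    intro x
    rw [herm_def]
    simp only [pow_q_pow_q hF]
    conv_rhs => rw [← Finset.univ_sum_single x]
    rw [map_sum]
    refine Finset.sum_congr rfl fun i _ => ?_
    have : (Pi.single i (x i) : Fin n → F) = x i • Pi.single i 1 := by
      rw [← Pi.single_smul, smul_eq_mul, mul_one]
    rw [this, map_smul, smul_eq_mul]
  refine ⟨fun w hw => ?_, ?_⟩
  · rw [hx0]
    exact hℓW hw
  · rw [hx0]
    exact hℓ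

/-- invariant totally singular subspaces of the stabiliser of a totally singular subspace -/
theorem le_of_sing {W V : Submodule F (Fin n → F)} (hW : IsTotallySingularFor (hermForm n F q) W)
    (hV : IsTotallySingularFor (hermForm n F q) V) (h : Inv (subspaceStabilizer W ⊓ SUg n F q) V) : V ≤ W := by
  have h1 : ∀ w ∈ W, ∀ v ∈ V, hermForm n F q v w = 0 := by
    intro w hw v hv
    rcases mem_or_perp hF h (hW w hw w hw) (uGL_stab_mem hF _ hw) with h2 | h2
    · exact hV v hv w h2
    · exact h2 v hv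
  intro v hv
  by_contra hvW
  obtain ⟨y, hyW, hyv⟩ := exists_perp_ne hF hvW
  have hyv' : hermForm n F q y v ≠ 0 := fun h => hyv (herm_eq_zero_swap hF h)
  obtain ⟨μ, hμ⟩ := Sing.exists_iso_add hF (hV v hv v hv) hyv'
  have h3 : ∀ w ∈ W, hermForm n F q w (y + μ • v) = 0 := by
    intro w hw
    rw [herm_add_right hF, herm_smul_right, hyW w hw, herm_eq_zero_swap hF (h1 w hw v hv), mul_zero, add_zero]
  have h4 : hermForm n F q v (y + μ • v) ≠ 0 := by
    rw [herm_add_right hF, herm_smul_right, hV v hv v hv, mul_zero, add_zero]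
    exact hyv
  rcases mem_or_perp hF h hμ (uGL_stab_perp hF _ h3) with h2 | h2
  · exact h4 (hV v hv _ h2)
  · exact h4 (h2 v hv)

/-- a vector orthogonal to all isotropic vectors of a non-degenerate subspace of dimension at least two is orthogonal to
the subspace -/
theorem perp_of_iso {Y : Submodule F (Fin n → F)} (hY : Nd q Y) (h2 : 2 ≤ Module.finrank F Y) {v : Fin n → F}
    (h : ∀ x ∈ Y, hermForm n F q x x = 0 → hermForm n F q v x = 0) : ∀ x ∈ Y, hermForm n F q v x = 0 := by
  have h1 := forall_of_iso hF (X := hermPerp q ({v} : Set (Fin n → F))) hY h2 1 (by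
    intro x hx hxx
    rw [Units.val_one, Matrix.one_mulVec, mem_hermPerp]
    intro w hw
    rw [Set.mem_singleton_iff.1 hw]
    have := h x hx hxx
    exact herm_eq_zero_swap hF this)
  intro x hx
  have h3 := h1 x hx
  rw [Units.val_one, Matrix.one_mulVec, mem_hermPerp] at h3
  exact herm_eq_zero_swap hF (h3 v rfl)

/-- invariant subspaces of the stabiliser of a non-degenerate subspace -/
theorem perp_of_nd {W V : Submodule F (Fin n → F)} (hW : Nd q W)
    (hV : ∀ x ∈ V, hermForm n F q x x = 0 → ∀ v ∈ V, hermForm n F q v x = 0)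
    (h : Inv (subspaceStabilizer W ⊓ SUg n F q) V) :
    (2 ≤ Module.finrank F W → ∀ v ∈ V, ∀ w ∈ W, hermForm n F q v w = 0) ∧
    (2 ≤ Module.finrank F (hermPerp q (W : Set (Fin n → F)) : Submodule F (Fin n → F)) →
      ∀ v ∈ V, ∀ w ∈ (hermPerp q (W : Set (Fin n → F)) : Submodule F (Fin n → F)), hermForm n F q v w = 0) := by
  have hP := perpPair_of_nd hF hW
  constructor
  · intro h2 v hv
    refine perp_of_iso hF hW h2 fun x hx hxx => ?_
    rcases mem_or_perp hF h hxx (uGL_stab_mem hF hxx hx) with h3 | h3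
    · exact hV x h3 hxx v hv
    · exact h3 v hv
  · intro h2 v hv
    refine perp_of_iso hF hP.nd' h2 fun x hx hxx => ?_
    rcases mem_or_perp hF h hxx (uGL_stab_perp hF hxx fun w hw => hP.perp w hw x hx) with h3 | h3
    · exact hV x h3 hxx v hv
    · exact h3 v hv

/-- no totally singular invariant subspaces -/
theorem sing_of_nd {W V : Submodule F (Fin n → F)} (hW : Nd q W) (hWn : 2 * Module.finrank F W < n) (hn : 3 ≤ n)
    (hV : IsTotallySingularFor (hermForm n F q) V) (h : Inv (subspaceStabilizer W ⊓ SUg n F q) V) : V = ⊥ := by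
  have hP := perpPair_of_nd hF hW
  obtain ⟨h1, h2⟩ := perp_of_nd hF hW (fun x hx _ v hv => hV v hv x hx) h
  have hdimU : Module.finrank F W + Module.finrank F (hermPerp q (W : Set (Fin n → F)) : Submodule F (Fin n → F)) = n :=
    finrank_hermPerp_of_nondeg hF W hW
  have h3 := h2 (by omega)
  have h4 : V ≤ W := fun v hv => hP.mem v (h3 v hv)
  rw [Submodule.eq_bot_iff]
  intro v hv
  by_cases h5 : 2 ≤ Module.finrank F W
  · exact hW v (h4 hv) fun w hw => h1 h5 v hv w hw
  · by_contra hv0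
    have h6 : Module.finrank F W = 1 := by
      have h7 : Module.finrank F W ≠ 0 := by
        intro h0
        apply hv0
        have h8 := Submodule.finrank_eq_zero.1 h0
        have h9 := h4 hv
        rw [h8] at h9
        exact h9
      omega
    apply hv0
    refine hW v (h4 hv) fun y hy => ?_
    obtain ⟨c, hc⟩ := (finrank_eq_one_iff_of_nonzero' (⟨v, h4 hv⟩ : W)
      (fun h => hv0 (congrArg Subtype.val h))).1 h6 ⟨y, hy⟩
    have hc' : c • v = y := congrArg Subtype.val hc
    rw [← hc', herm_smul_right, hV v hv v hv, mul_zero]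

/-- no invariant non-singular points if the dimension is at least two -/
theorem point_of_nd {W V : Submodule F (Fin n → F)} (hW : Nd q W) (hW2 : 2 ≤ Module.finrank F W)
    (hWn : 2 * Module.finrank F W < n) (hV : Nd q V) (hV1 : Module.finrank F V = 1)
    (h : Inv (subspaceStabilizer W ⊓ SUg n F q) V) : False := by
  have hP := perpPair_of_nd hF hW
  have hiso : ∀ x ∈ V, hermForm n F q x x = 0 → x = 0 := by
    intro x hx hxx
    by_contra hx0
    apply hx0
    refine hV x hx fun y hy => ?_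
    obtain ⟨c, hc⟩ := (finrank_eq_one_iff_of_nonzero' (⟨x, hx⟩ : V)
      (fun h => hx0 (congrArg Subtype.val h))).1 hV1 ⟨y, hy⟩
    have hc' : c • x = y := congrArg Subtype.val hc
    rw [← hc', herm_smul_right, hxx, mul_zero]
  obtain ⟨h1, h2⟩ := perp_of_nd hF hW (fun x hx hxx v hv => by
    rw [hiso x hx hxx, herm_zero_right hF]) h
  have hdimU : Module.finrank F W + Module.finrank F (hermPerp q (W : Set (Fin n → F)) : Submodule F (Fin n → F)) = n :=
    finrank_hermPerp_of_nondeg hF W hW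
  have h3 := h2 (by omega)
  have h5 := h1 hW2
  have hV0 : V = ⊥ := by
    rw [Submodule.eq_bot_iff]
    intro v hv
    exact hW v (hP.mem v (h3 v hv)) fun w hw => h5 v hv w hw
  rw [hV0, finrank_bot] at hV1
  exact zero_ne_one hV1

end herm

end Cfsg.Agent.H234.SepPSU
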