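import Mathlib
import Cfsg.Agent.H234.SepPSU
import Cfsg.Agent.LieClassical.SUBasic

/-!
# At least five classes of maximal subgroups in `PSU_n(q)`, `n ≥ 5` (helper234, for S5906, S5907)

`psu_five_ge5 : Fintype.card F = q ^ 2 → 5 ≤ n → Sep 5 (PSU n F q)`.
-/

set_option autoImplicit false
set_option linter.unusedSectionVars false

namespace Cfsg.Agent.H234.SepPSU

open Cfsg Cfsg.Geo Cfsg.Agent.H940.MaxCls Cfsg.Agent.H918 Cfsg.Agent.H950.MC Cfsg.Agent.H876
open Cfsg.Agent.LieClassical.HermBasic Cfsg.Agent.ClassicalGeometry.UnitTransv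
open Cfsg.Agent.ClassicalGeometry.HermOrtho Cfsg.Agent.LieClassical.SUBasic
open scoped Matrix MatrixGroups

variable {F : Type*} [Field F] [Fintype F] {n q : ℕ} (hF : Fintype.card F = q ^ 2)
include hF

/-! ### Existence -/

theorem exists_sing_sub (k : ℕ) (h : 2 * k ≤ n) : ∃ W : Submodule F (Fin n → F), Module.finrank F W = k ∧
    IsTotallySingularFor (hermForm n F q) W := by
  classical
  obtain ⟨a, ha⟩ := exists_norm_eq hF (c := (-1 : F)) (by rw [neg_pow_q hF, one_pow])
  let e : Fin k → Fin n := fun i => ⟨2 * i.1, by have := i.2; omega⟩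
  let f : Fin k → Fin n := fun i => ⟨2 * i.1 + 1, by have := i.2; omega⟩
  have he : ∀ i j, e i = e j ↔ i = j := by
    intro i j
    rw [Fin.ext_iff, Fin.ext_iff]
    show 2 * i.1 = 2 * j.1 ↔ _
    omega
  have hf : ∀ i j, f i = f j ↔ i = j := by
    intro i j
    rw [Fin.ext_iff, Fin.ext_iff]
    show 2 * i.1 + 1 = 2 * j.1 + 1 ↔ _
    omega
  have hef : ∀ i j, e i ≠ f j := by
    intro i j h1
    have h2 : 2 * i.1 = 2 * j.1 + 1 := congrArg Fin.val h1
    omega
  let u : Fin k → Fin n → F := fun i => Pi.single (e i) 1 + a • Pi.single (f i) 1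
  have hue : ∀ i j, u i (e j) = if i = j then 1 else 0 := by
    intro i j
    simp only [u, Pi.add_apply, Pi.smul_apply, smul_eq_mul]
    rw [Pi.single_eq_of_ne (hef j i), mul_zero, add_zero, Pi.single_apply]
    simp only [he, eq_comm]
  have huf : ∀ i j, u i (f j) = if i = j then a else 0 := by
    intro i j
    simp only [u, Pi.add_apply, Pi.smul_apply, smul_eq_mul]
    rw [Pi.single_eq_of_ne (hef i j).symm, zero_add, Pi.single_apply]
    simp only [hf, eq_comm]
    split_ifs <;> simp
  have hli : LinearIndependent F u := by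
    rw [Fintype.linearIndependent_iff]
    intro c hc i
    have h1 := congrFun hc (e i)
    rw [Finset.sum_apply] at h1
    simp only [Pi.smul_apply, smul_eq_mul, hue] at h1
    simpa using h1
  have hq0 : q ≠ 0 := by
    rintro rfl
    rw [zero_pow two_ne_zero] at hF
    exact Fintype.card_ne_zero hF
  have hfo : ∀ i j, hermForm n F q (u i) (u j) = 0 := by
    intro i j
    show hermForm n F q (Pi.single (e i) 1 + a • Pi.single (f i) 1) (u j) = 0
    rw [herm_add_left, herm_smul_left, herm_single_left, herm_single_left, hue, huf]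
    by_cases hij : j = i
    · subst hij
      rw [if_pos rfl, if_pos rfl]
      linear_combination ha + one_pow (M := F) q
    · rw [if_neg hij, if_neg hij, zero_pow hq0]
      ring
  refine ⟨Submodule.span F (Set.range u), ?_, ?_⟩
  · rw [finrank_span_eq_card hli, Fintype.card_fin]
  · intro x hx y hy
    induction hx using Submodule.span_induction with
    | mem x hx =>
      obtain ⟨i, rfl⟩ := hx
      induction hy using Submodule.span_induction with
      | mem y hy => obtain ⟨j, rfl⟩ := hy; exact hfo i j
      | zero => exact herm_zero_right hF _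
      | add y z _ _ h1 h2 => rw [herm_add_right hF, h1, h2, add_zero]
      | smul c y _ h1 => rw [herm_smul_right, h1, mul_zero]
    | zero => exact herm_zero_left _
    | add x z _ _ h1 h2 => rw [herm_add_left, h1, h2, add_zero]
    | smul c x _ h1 => rw [herm_smul_left, h1, mul_zero]

theorem exists_nd_sub (k : ℕ) (h : k ≤ n) : ∃ W : Submodule F (Fin n → F), Module.finrank F W = k ∧
    IsNondegenerateOn (hermForm n F q) W := by
  classical
  let e : Fin k → Fin n := Fin.castLE h
  have he : Function.Injective e := Fin.castLE_injective h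
  let u : Fin k → Fin n → F := fun i => Pi.single (e i) 1
  have hli : LinearIndependent F u := by
    rw [Fintype.linearIndependent_iff]
    intro c hc i
    have h1 := congrFun hc (e i)
    rw [Finset.sum_apply] at h1
    simp only [u, Pi.smul_apply, smul_eq_mul, Pi.single_apply, he.eq_iff] at h1
    simpa using h1
  refine ⟨Submodule.span F (Set.range u), ?_, ?_⟩
  · rw [finrank_span_eq_card hli, Fintype.card_fin]
  · intro w hw hw0
    have h1 : ∃ i, w (e i) ≠ 0 := by
      by_contra hcon
      push Not at hcon
      have h2 : ∀ j : Fin n, j ∉ Set.range e → w j = 0 := by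
        intro j hj
        have h3 : Submodule.span F (Set.range u) ≤ LinearMap.ker (LinearMap.proj j : (Fin n → F) →ₗ[F] F) := by
          rw [Submodule.span_le]
          rintro _ ⟨i, rfl⟩
          exact Pi.single_eq_of_ne (fun h => hj ⟨i, h.symm⟩) _
        exact h3 hw
      apply hw0
      funext j
      by_cases hj : j ∈ Set.range e
      · obtain ⟨i, rfl⟩ := hj
        exact hcon i
      · exact h2 j hj
    obtain ⟨i, hi⟩ := h1
    have h2 : u i ∈ Submodule.span F (Set.range u) := Submodule.subset_span ⟨i, rfl⟩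
    have h3 : hermForm n F q w (u i) ≠ 0 := by
      rw [herm_single_right hF]
      simpa using hi
    exact ⟨⟨u i, h2, fun h4 => h3 (herm_eq_zero_swap hF h4)⟩, ⟨u i, h2, h3⟩⟩

/-! ### The standard frame -/

/-- the standard frame -/
def frame (F : Type*) [Field F] (n : ℕ) : Fin n → Submodule F (Fin n → F) := fun i => F ∙ (Pi.single i 1 : Fin n → F)

theorem frame_decomp (hn : 2 ≤ n) : IsNondegenerateMDecomposition (hermForm n F q) 1 (frame F n) := by
  classical
  have hh : ∀ i j : Fin n, hermForm n F q (Pi.single i 1) (Pi.single j 1) = if i = j then 1 else 0 := by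
    intro i j
    have hq0 : q ≠ 0 := by
      rintro rfl
      rw [zero_pow two_ne_zero] at hF
      exact Fintype.card_ne_zero hF
    rw [herm_single_left, Pi.single_apply, one_mul]
    split_ifs <;> simp [hq0]
  have hne : ∀ i : Fin n, (Pi.single i 1 : Fin n → F) ≠ 0 := by
    intro i h
    have := hh i i
    rw [h, herm_zero_left, if_pos rfl] at this
    exact zero_ne_one this
  have hli : LinearIndependent F (fun i : Fin n => (Pi.single i 1 : Fin n → F)) := by
    rw [Fintype.linearIndependent_iff]
    intro g hg i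
    have h1 : hermForm n F q (∑ i, g i • (Pi.single i 1 : Fin n → F)) (Pi.single i 1) = g i := by
      rw [herm_sum_left]
      simp_rw [herm_smul_left, hh]
      simp
    rw [← h1, hg, herm_zero_left]
  refine ⟨⟨hn, by norm_num, fun i => finrank_span_singleton (hne i), hli.iSupIndep_span_singleton, ?_⟩,
    ?_, ?_⟩
  · show iSup (fun i => Submodule.span F {(Pi.single i 1 : Fin n → F)}) = ⊤
    rw [← Submodule.span_range_eq_iSup]
    exact hli.span_eq_top_of_card_eq_finrank' (by simp)
  · intro i w hw hw0
    have hw' := Submodule.mem_span_singleton.1 hw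
    obtain ⟨a, rfl⟩ := hw'
    have ha : a ≠ 0 := by rintro rfl; simp at hw0
    have h1 : hermForm n F q (a • (Pi.single i 1 : Fin n → F)) (a • (Pi.single i 1 : Fin n → F)) ≠ 0 := by
      rw [herm_smul_left, herm_smul_right, hh, if_pos rfl, mul_one]
      exact mul_ne_zero ha (pow_ne_zero _ ha)
    exact ⟨⟨_, hw, h1⟩, ⟨_, hw, h1⟩⟩
  · intro i j hij u hu v hv
    obtain ⟨a, rfl⟩ := Submodule.mem_span_singleton.1 hu
    obtain ⟨b, rfl⟩ := Submodule.mem_span_singleton.1 hv
    rw [herm_smul_left, herm_smul_right, hh, if_neg hij, mul_zero, mul_zero]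

/-- the group of the frame is irreducible -/
theorem frame_irr (hn : 3 ≤ n) {V : Submodule F (Fin n → F)} (hV0 : V ≠ ⊥)
    (h : Inv (decompositionStabilizer (frame F n) ⊓ SUg n F q) V) : V = ⊤ := by
  classical
  obtain ⟨l, hl, hl1⟩ := exists_norm_one hF
  have hl0 : l ≠ 0 := by
    rintro rfl
    rw [zero_pow (Nat.succ_ne_zero q)] at hl
    exact zero_ne_one hl
  -- the elements of the diagonal
  have hdiag : ∀ (a : Fin n → F) (hd : ∏ i, a i = 1) (ha : ∀ i, a i ^ (q + 1) = 1), ∀ v ∈ V, (fun i => a i * v i) ∈ V := by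
    intro a hd ha v hv
    have ha0 : ∀ i, a i ≠ 0 := by
      intro i h0
      have := ha i
      rw [h0, zero_pow (Nat.succ_ne_zero q)] at this
      exact zero_ne_one this
    have h1 := h (suHom n F q (suDiag q a hd ha)) ⟨⟨1, fun i => ?_⟩, suHom_mem _⟩ v hv
    · have h2 : ((suHom n F q (suDiag q a hd ha) : GL (Fin n) F) : Matrix (Fin n) (Fin n) F) *ᵥ v = fun i => a i * v i := by
        rw [coe_suHom]
        show Matrix.diagonal a *ᵥ v = _
        funext i
        rw [Matrix.mulVec_diagonal]
      rwa [h2] at h1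
    · show (frame F n i).map (Matrix.toLin' ((suHom n F q (suDiag q a hd ha) : GL (Fin n) F) :
        Matrix (Fin n) (Fin n) F)) = frame F n i
      refine map_mulVec_eq_of_le fun x hx => ?_
      obtain ⟨b, rfl⟩ := Submodule.mem_span_singleton.1 hx
      rw [coe_suHom]
      have h2 : (Matrix.diagonal a) *ᵥ (b • (Pi.single i 1 : Fin n → F)) = a i • (b • (Pi.single i 1 : Fin n → F)) := by
        funext j
        rw [Matrix.mulVec_diagonal]
        by_cases hj : j = i
        · subst hj; simp
        · simp [hj]
      have h3 : (Matrix.diagonal a) *ᵥ (b • (Pi.single i 1 : Fin n → F)) ∈ frame F n i := by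
        rw [h2]
        exact Submodule.smul_mem _ _ hx
      exact h3
  have hperm : ∀ (σ : Equiv.Perm (Fin n)), Equiv.Perm.sign σ = 1 → ∀ v ∈ V, (fun i => v (σ i)) ∈ V := by
    intro σ hσ v hv
    have h1 := h (suHom n F q (suPerm q σ hσ)) ⟨⟨σ⁻¹, fun i => ?_⟩, suHom_mem _⟩ v hv
    · have h2 : ((suHom n F q (suPerm q σ hσ) : GL (Fin n) F) : Matrix (Fin n) (Fin n) F) *ᵥ v = fun i => v (σ i) := by
        rw [coe_suHom]
        show (σ.permMatrix F) *ᵥ v = _
        rw [Matrix.permMatrix_mulVec]
        rfl
      rwa [h2] at h1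
    · have h2 : ((suHom n F q (suPerm q σ hσ) : GL (Fin n) F) : Matrix (Fin n) (Fin n) F) *ᵥ (Pi.single i 1) =
          Pi.single (σ⁻¹ i) 1 := by
        rw [coe_suHom]
        show (σ.permMatrix F) *ᵥ _ = _
        rw [Matrix.permMatrix_mulVec]
        funext j
        show (Pi.single i 1 : Fin n → F) (σ j) = _
        rw [Pi.single_apply, Pi.single_apply]
        have : (σ j = i) ↔ (j = σ⁻¹ i) := by
          constructor
          · rintro rfl; simp
          · rintro rfl; simp
        simp only [this]
      rw [frame, frame, Submodule.map_span, Set.image_singleton, Matrix.toLin'_apply, h2]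
  obtain ⟨v, hv, hv0⟩ := Submodule.exists_mem_ne_zero_of_ne_bot hV0
  obtain ⟨i, hi⟩ := Function.ne_iff.1 hv0
  -- isolate a coordinate
  have hthird : ∀ i j : Fin n, ∃ k, k ≠ i ∧ k ≠ j := by
    intro i j
    by_contra hcon
    push Not at hcon
    have h1 : (Finset.univ : Finset (Fin n)) ⊆ {i, j} := by
      intro k _
      rw [Finset.mem_insert, Finset.mem_singleton]
      by_cases hk : k = i
      · exact Or.inl hk
      · exact Or.inr (hcon k hk)
    have h2 := Finset.card_le_card h1
    rw [Finset.card_univ, Fintype.card_fin] at h2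
    have h3 := Finset.card_le_two (a := i) (b := j)
    omega
  have hpair : ∀ i j : Fin n, i ≠ j → ∀ v ∈ V, (fun m => (if m = i then l - 1 else if m = j then l⁻¹ - 1 else 0) * v m) ∈ V := by
    intro i j hij v hv
    have h1 := hdiag (fun m => if m = i then l else if m = j then l⁻¹ else 1) (by
        rw [Finset.prod_eq_mul i j hij]
        · rw [if_pos rfl, if_neg hij.symm, if_pos rfl, mul_inv_cancel₀ hl0]
        · intro c _ hc
          rw [if_neg hc.1, if_neg hc.2]
        · intro h; exact absurd (Finset.mem_univ _) h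
        · intro h; exact absurd (Finset.mem_univ _) h) (by
        intro m
        split_ifs
        · exact hl
        · rw [inv_pow, hl, inv_one]
        · exact one_pow _) v hv
    have h2 := V.sub_mem h1 hv
    have h3 : (fun m => (if m = i then l - 1 else if m = j then l⁻¹ - 1 else 0) * v m) =
        (fun m => (if m = i then l else if m = j then l⁻¹ else 1) * v m) - v := by
      funext m
      rw [Pi.sub_apply]
      split_ifs <;> ring
    rw [h3]
    exact h2
  have hsingle : ∀ i, v i ≠ 0 → (Pi.single i 1 : Fin n → F) ∈ V := by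
    intro i hi
    obtain ⟨j, hj, -⟩ := hthird i i
    obtain ⟨k, hk, hkj⟩ := hthird i j
    have h1 := hpair i j hj.symm _ (hpair i k hk.symm v hv)
    have h2 : (fun m => (if m = i then l - 1 else if m = j then l⁻¹ - 1 else 0) *
        ((if m = i then l - 1 else if m = k then l⁻¹ - 1 else 0) * v m)) =
        ((l - 1) ^ 2 * v i) • (Pi.single i 1 : Fin n → F) := by
      funext m
      rw [Pi.smul_apply, smul_eq_mul]
      by_cases hm : m = i
      · subst hm
        rw [if_pos rfl, if_pos rfl, Pi.single_eq_same]; ring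
      · rw [if_neg hm, if_neg hm, Pi.single_eq_of_ne hm]
        by_cases hmj : m = j
        · subst hmj
          rw [if_neg hkj.symm]; ring
        · rw [if_neg hmj]; ring
    rw [h2] at h1
    exact (Submodule.smul_mem_iff V (mul_ne_zero (pow_ne_zero 2 (sub_ne_zero.2 hl1)) hi)).1 h1
  have hall : ∀ j, (Pi.single j 1 : Fin n → F) ∈ V := by
    intro j
    by_cases hij : i = j
    · subst hij; exact hsingle i hi
    · obtain ⟨k, hk, hkj⟩ := hthird i j
      have h1 := hperm (Equiv.swap i j * Equiv.swap i k) (by
        rw [Equiv.Perm.sign_mul, Equiv.Perm.sign_swap hij, Equiv.Perm.sign_swap hk.symm]; decide) _ (hsingle i hi)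
      have h2 : (fun m => (Pi.single i 1 : Fin n → F) ((Equiv.swap i j * Equiv.swap i k) m)) = Pi.single j 1 := by
        funext m
        rw [Pi.single_apply, Pi.single_apply]
        have h3 : (Equiv.swap i j * Equiv.swap i k) m = i ↔ m = j := by
          rw [Equiv.Perm.mul_apply]
          constructor
          · intro h4
            have h5 : Equiv.swap i k m = j := by
              have := congrArg (Equiv.swap i j) h4
              rwa [Equiv.swap_apply_self, Equiv.swap_apply_left] at this
            have h6 := congrArg (Equiv.swap i k) h5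
            rwa [Equiv.swap_apply_self, Equiv.swap_apply_of_ne_of_ne (Ne.symm hij) hkj.symm] at h6
          · rintro rfl
            rw [Equiv.swap_apply_of_ne_of_ne (Ne.symm hij) hkj.symm, Equiv.swap_apply_right]
        simp only [h3]
      rw [h2] at h1
      exact h1
  rw [eq_top_iff]
  intro x _
  rw [← Finset.univ_sum_single x]
  refine V.sum_mem fun j _ => ?_
  have : (Pi.single j (x j) : Fin n → F) = x j • Pi.single j 1 := by
    rw [← Pi.single_smul, smul_eq_mul, mul_one]
  rw [this]
  exact V.smul_mem _ (hall j)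

/-- **`PSU_n(q)`, `n ≥ 5`, has at least five classes of maximal subgroups** -/
theorem psu_five_ge5 (hn : 5 ≤ n) : Sep 5 (PSU n F q) := by
  have h32 : ¬ (n = 3 ∧ q = 2) := fun h => by omega
  obtain ⟨P1, hP1, hP1s⟩ := exists_sing_sub hF (n := n) 1 (by omega)
  obtain ⟨P2, hP2, hP2s⟩ := exists_sing_sub hF (n := n) 2 (by omega)
  obtain ⟨N1, hN1, hN1s⟩ := exists_nd_sub hF (n := n) 1 (by omega)
  obtain ⟨N2, hN2, hN2s⟩ := exists_nd_sub hF (n := n) 2 (by omega)
  have hne : ∀ {W : Submodule F (Fin n → F)}, Module.finrank F W ≠ 0 → W ≠ ⊥ := by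
    rintro W h rfl
    exact h (finrank_bot F _)
  have mP1 := Sing.sing_maximal n q hF (by omega) h32 P1 (hne (by omega)) hP1s
  have mP2 := Sing.sing_maximal n q hF (by omega) h32 P2 (hne (by omega)) hP2s
  have mN1 := nondeg_maximal n q hF (by omega) h32 N1 (hne (by omega)) hN1s (by omega)
  have mN2 := nondeg_maximal n q hF (by omega) h32 N2 (hne (by omega)) hN2s (by omega)
  have nd1 : Nd q N1 := nd_of_geo hN1s
  have nd2 : Nd q N2 := nd_of_geo hN2s
  -- not conjugate
  have sing_sing : ∀ {W V : Submodule F (Fin n → F)}, IsTotallySingularFor (hermForm n F q) W →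
      IsTotallySingularFor (hermForm n F q) V → Module.finrank F W < Module.finrank F V →
      IsMaximalIn (SUg n F q) (subspaceStabilizer V ⊓ SUg n F q) →
      ApartIn (SUg n F q) (subspaceStabilizer W ⊓ SUg n F q) (subspaceStabilizer V ⊓ SUg n F q) := by
    intro W V hW hV hlt hm
    refine (apart_of hm fun g hg h => ?_).symm
    have h1 := Submodule.finrank_mono (le_of_sing hF hW (sing_pre hg.1 hV) h)
    rw [finrank_pre] at h1
    omega
  have sing_nd : ∀ {W V : Submodule F (Fin n → F)}, IsTotallySingularFor (hermForm n F q) W → W ≠ ⊥ →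
      Nd q V → 2 * Module.finrank F V < n →
      IsMaximalIn (SUg n F q) (subspaceStabilizer W ⊓ SUg n F q) →
      ApartIn (SUg n F q) (subspaceStabilizer W ⊓ SUg n F q) (subspaceStabilizer V ⊓ SUg n F q) := by
    intro W V hW hW0 hV hlt hm
    refine apart_of hm fun g hg h => ?_
    have h1 := sing_of_nd hF hV hlt (by omega) (sing_pre hg.1 hW) h
    have h2 := finrank_pre g W
    rw [h1, finrank_bot] at h2
    exact hW0 (Submodule.finrank_eq_zero.1 h2.symm)
  have aP12 := sing_sing hP1s hP2s (by omega) mP2
  have aPN11 := sing_nd hP1s (hne (by omega)) nd1 (by omega) mP1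
  have aPN12 := sing_nd hP1s (hne (by omega)) nd2 (by omega) mP1
  have aPN21 := sing_nd hP2s (hne (by omega)) nd1 (by omega) mP2
  have aPN22 := sing_nd hP2s (hne (by omega)) nd2 (by omega) mP2
  have aN12 : ApartIn (SUg n F q) (subspaceStabilizer N1 ⊓ SUg n F q) (subspaceStabilizer N2 ⊓ SUg n F q) := by
    refine apart_of mN1 fun g hg h => ?_
    exact point_of_nd hF nd2 (by omega) (by omega) (nd_pre hg.1 nd1) (by rw [finrank_pre]; exact hN1) h
  by_cases hn5 : n = 5
  · have mE := FrameMax.frame_maximal_all hF (by omega) (fun h => by omega) (frame F n) (frame_decomp hF (by omega))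
    have irr : ∀ {W : Submodule F (Fin n → F)}, W ≠ ⊥ → Module.finrank F W < n →
        IsMaximalIn (SUg n F q) (subspaceStabilizer W ⊓ SUg n F q) →
        ApartIn (SUg n F q) (subspaceStabilizer W ⊓ SUg n F q)
          (decompositionStabilizer (frame F n) ⊓ SUg n F q) := by
      intro W hW0 hWn hm
      refine apart_of hm fun g hg h => ?_
      have h2 := finrank_pre g W
      have h3 : pre g W ≠ ⊥ := by
        intro h0
        rw [h0, finrank_bot] at h2
        exact hW0 (Submodule.finrank_eq_zero.1 h2.symm)
      rw [frame_irr hF (by omega) h3 h, finrank_top, Module.finrank_fin_fun] at h2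
      omega
    exact sep_psu_five hF (by omega) h32 inf_le_right inf_le_right inf_le_right inf_le_right inf_le_right
      mP1.1.ne mP2.1.ne mN1.1.ne mN2.1.ne mE.1.ne aP12 aPN11 aPN12 (irr (hne (by omega)) (by omega) mP1)
      aPN21 aPN22 (irr (hne (by omega)) (by omega) mP2) aN12 (irr (hne (by omega)) (by omega) mN1)
      (irr (hne (by omega)) (by omega) mN2)
  · obtain ⟨P3, hP3, hP3s⟩ := exists_sing_sub hF (n := n) 3 (by omega)
    have mP3 := Sing.sing_maximal n q hF (by omega) h32 P3 (hne (by omega)) hP3s
    exact sep_psu_five hF (by omega) h32 inf_le_right inf_le_right inf_le_right inf_le_right inf_le_right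
      mP1.1.ne mP2.1.ne mP3.1.ne mN1.1.ne mN2.1.ne aP12 (sing_sing hP1s hP3s (by omega) mP3) aPN11 aPN12
      (sing_sing hP2s hP3s (by omega) mP3) aPN21 aPN22 (sing_nd hP3s (hne (by omega)) nd1 (by omega) mP3)
      (sing_nd hP3s (hne (by omega)) nd2 (by omega) mP3) aN12

end Cfsg.Agent.H234.SepPSU
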